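import Groth.Agent.Lib.UnipFix19.QuotientField
import Groth.Agent.Lib.GenSubgrp14.Connected
import Groth.Agent.Lib.Flag27.Solvable

/-!
# Commutative normal subgroups inside solvable normal subgroups
-/

set_option autoImplicit false
set_option linter.all false
set_option backward.isDefEq.respectTransparency false

universe u

open CategoryTheory CategoryTheory.Limits MonoidalCategory CartesianMonoidalCategory MonObj GrpObj
open AlgebraicGeometry TopologicalSpace

noncomputable section

set_option synthInstance.maxHeartbeats 200000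
set_option maxHeartbeats 1000000

namespace GrothLib.UnipFix19

open GrothLib.Flag27 (dval dsrc dword)

variable {k : Type u} [Field k]

local notation "𝒞" => Over (Spec (CommRingCat.of k))

/-- Morphisms out of a reduced scheme agree if they agree through a jointly dense family. -/
theorem eq_of_dense_family {A G : 𝒞} [IsReduced A.left] [IsSeparated G.hom] (φ ψ : A ⟶ G) {T : Set A.left}
    (hT : Dense T) (h : ∀ q ∈ T, ∃ (B : Over (Spec (CommRingCat.of k))) (r : B ⟶ A), q ∈ Set.range r.left ∧ r ≫ φ = r ≫ ψ) :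
    φ = ψ := by
  haveI : IsDominant (equalizer.ι φ ψ).left := ⟨hT.mono fun q hq => by
    obtain ⟨B, r, ⟨b, rfl⟩, hr⟩ := h q hq
    exact ⟨(equalizer.lift r hr).left b, by rw [← Scheme.Hom.comp_apply, ← Over.comp_left, equalizer.lift_ι]⟩⟩
  exact Over.OverMorphism.ext (ext_of_isDominant_of_isSeparated G.hom (by rw [Over.w, Over.w])
    (equalizer.ι φ ψ).left (by rw [← Over.comp_left, equalizer.condition, Over.comp_left]))

theorem connected_dsrc {N : 𝒞} [GrpObj N] [ConnectedSpace N.left] : ∀ m : ℕ,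
    ConnectedSpace (dsrc N m).left ∧ ∃ x : 𝟙_ 𝒞 ⟶ dsrc N m, x ≫ dword N m = 1
  | 0 => ⟨‹ConnectedSpace N.left›, (1 : 𝟙_ 𝒞 ⟶ N), MonObj.one_comp (𝟙 N)⟩
  | m + 1 => by
    obtain ⟨hc, x, hx⟩ := connected_dsrc (N := N) m
    haveI := hc
    refine ⟨GrothLib.Neutral.connectedSpace_pullback (dsrc N m).hom (dsrc N m).hom x.left (Over.w x), lift x x, ?_⟩
    simp only [GrothLib.Flag27.dword_succ, commutatorElement_def, MonObj.comp_mul, GrpObj.comp_inv, lift_fst_assoc,
      lift_snd_assoc, hx]
    group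

/-- A nontrivial solvable normal subgroup contains a nontrivial commutative one. -/
theorem exists_comm_normal {G N : 𝒞} [GrpObj G] [GrpObj N] [IsAffine G.left] [Smooth G.hom]
    (n : N ⟶ G) [IsMonHom n] [IsClosedImmersion n.left] [Smooth N.hom] [ConnectedSpace N.left]
    (hn : AlgGrp.IsNormalHom n) (hs : Red.IsSolvableGrp N) (hne : ¬ Red.IsTrivialGrp N) :
    ∃ (H : 𝒞) (_ : GrpObj H) (i : H ⟶ G) (j : H ⟶ N), IsMonHom i ∧ IsCommMonObj H ∧ IsClosedImmersion i.left ∧
      Smooth H.hom ∧ ConnectedSpace H.left ∧ AlgGrp.IsNormalHom i ∧ j ≫ n = i ∧ ¬ Red.IsTrivialGrp H := by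
  classical
  haveI : Mono n := Over.mono_of_mono_left n
  haveI : IsAffine N.left := isAffine_of_isAffineHom n.left
  haveI : IsSeparated G.hom := inferInstance
  have hsp := hs
  obtain ⟨n₀, hn₀⟩ : ∃ d, (∀ X : 𝒞, derivedSeries (X ⟶ N) d = ⊥) ∧
      ∀ d' < d, ¬ ∀ X : 𝒞, derivedSeries (X ⟶ N) d' = ⊥ :=
    ⟨Nat.find hsp, Nat.find_spec hsp, fun d' hd' => Nat.find_min hsp hd'⟩
  obtain ⟨hd, hmin⟩ := hn₀
  cases n₀ with
  | zero =>
    refine absurd ?_ hne
    have h1 : (𝟙 N : N ⟶ N) = 1 := by
      have := hd N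
      rw [derivedSeries_zero] at this
      exact Subgroup.mem_bot.1 (this ▸ Subgroup.mem_top _)
    show IsIso N.hom
    refine ⟨(η[N] : 𝟙_ 𝒞 ⟶ N).left, ?_, Over.w η[N]⟩
    have h2 := congrArg (fun w : N ⟶ N => w.left) h1
    rw [Hom.one_def, Over.comp_left, Over.id_left, Over.toUnit_left] at h2
    exact h2.symm
  | succ m =>
    haveI : Smooth (dsrc N m).hom := GrothLib.Flag27.smooth_dsrc m
    obtain ⟨hdc, x₀, hx₀⟩ := connected_dsrc (N := N) m
    let f : dsrc N m ⟶ G := dword N m ≫ n
    have hGen : ∀ (A : 𝒞) (g : A ⟶ G), GenSubgrp14.Single f A g → GeometricallyReduced A.hom ∧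
        ConnectedSpace A.left ∧ ∃ x : 𝟙_ 𝒞 ⟶ A, x ≫ g = η[G] := by
      intro A g hg
      cases hg
      exact ⟨GrothLib.Rigidity.geometricallyReduced_of_smooth' (dsrc N m).hom, hdc, x₀,
        by rw [reassoc_of% hx₀, MonObj.one_comp, GenSubgrp14.eta_eq_one]⟩
    obtain ⟨E⟩ := GenSubgrp14.nonempty_envelope (GenSubgrp14.Single f) fun A g hg => (hGen A g hg).1
    let _ := E.grp
    haveI := E.isMonHom
    haveI := E.isClosedImmersion
    haveI := E.geometricallyReduced
    haveI : LocallyOfFiniteType E.Z.hom := by rw [← Over.w E.z]; infer_instance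
    haveI : Smooth E.Z.hom := by
      letI : GrpObj (Over.mk E.Z.hom) := (E.grp : GrpObj E.Z)
      exact smooth_of_grpObj E.Z.hom
    haveI : GeometricallyReduced G.hom := GrothLib.Rigidity.geometricallyReduced_of_smooth' G.hom
    haveI := GenSubgrp14.geometricallyReduced_tensor G E.Z
    haveI := GenSubgrp14.geometricallyReduced_tensor E.Z E.Z
    haveI : ConnectedSpace E.Z.left := GenSubgrp14.connectedSpace_of_min (GenSubgrp14.Single f) hGen E.Z E.z
      (fun A g h => E.lift_word A g (.of h))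
      (fun Γ' _ i' _ hc hh => GenSubgrp14.exists_over_lift E.z i' (E.range_eq.le.trans
        (closure_minimal (fun g ⟨W, w, hw, hg⟩ => by
          obtain ⟨w', rfl⟩ := hw.lift_of_gen i' hh
          exact GenSubgrp14.range_subset_of_comp w' i' hg) i'.left.isClosedEmbedding.isClosed_range)))
    -- words come from the last derived term
    have hword : ∀ (W : 𝒞) (w : W ⟶ G), GenSubgrp14.IsWord (GenSubgrp14.Single f) W w →
        ∃ v ∈ derivedSeries (W ⟶ N) m, v ≫ n = w := by
      intro W w h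
      induction h with
      | one => exact ⟨1, one_mem _, by rw [MonObj.one_comp, GenSubgrp14.eta_eq_one]⟩
      | of h =>
        cases h
        refine ⟨dword N m, GrothLib.Flag27.dval_subset m ?_, rfl⟩
        simpa using GrothLib.Flag27.comp_dword_mem m (𝟙 (dsrc N m))
      | inv _ ih =>
        obtain ⟨v, hv, rfl⟩ := ih
        exact ⟨v⁻¹, inv_mem hv, GrpObj.inv_comp _ _⟩
      | @mul W W' w w' _ _ ih ih' =>
        obtain ⟨v, hv, rfl⟩ := ih
        obtain ⟨v', hv', rfl⟩ := ih'
        let a : (W ⟶ N) →* (W ⊗ W' ⟶ N) :=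
          { toFun := fun x => fst W W' ≫ x, map_one' := MonObj.comp_one _, map_mul' := fun x y => MonObj.comp_mul _ _ _ }
        let b : (W' ⟶ N) →* (W ⊗ W' ⟶ N) :=
          { toFun := fun x => snd W W' ≫ x, map_one' := MonObj.comp_one _, map_mul' := fun x y => MonObj.comp_mul _ _ _ }
        exact ⟨a v * b v', mul_mem (map_derivedSeries_le_derivedSeries a m ⟨v, hv, rfl⟩)
          (map_derivedSeries_le_derivedSeries b m ⟨v', hv', rfl⟩), by
            show ((fst W W' ≫ v) * (snd W W' ≫ v')) ≫ n = _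
            rw [MonObj.mul_comp, Category.assoc, Category.assoc]⟩
    have hD : Dense (E.z.left.base ⁻¹' GenSubgrp14.wordSet (GenSubgrp14.Single f)) := by
      rw [E.z.left.isClosedEmbedding.isInducing.dense_iff]
      intro y
      rw [Set.image_preimage_eq_of_subset]
      · exact E.range_eq.le ⟨y, rfl⟩
      · intro g hg
        exact E.range_eq.ge (subset_closure hg)
    haveI : IsReduced (E.Z ⊗ E.Z).left := GenSubgrp14.isReduced_left _
    have hred : ∀ (W : 𝒞) (w : W ⟶ G), GenSubgrp14.IsWord (GenSubgrp14.Single f) W w →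
        IsReduced (W ⊗ E.Z).left := fun W w h => by
      haveI := h.geometricallyReduced _ fun A g hg => (hGen A g hg).1
      haveI := GenSubgrp14.geometricallyReduced_tensor W E.Z
      exact GenSubgrp14.isReduced_left _
    have hcomm1 : ∀ (W : 𝒞) (w : W ⟶ G), GenSubgrp14.IsWord (GenSubgrp14.Single f) W w →
        (fst W E.Z ≫ w) * (snd W E.Z ≫ E.z) = (snd W E.Z ≫ E.z) * (fst W E.Z ≫ w) := by
      intro W w hw
      haveI := hred W w hw
      refine eq_of_dense_family _ _ (hD.preimage (GenSubgrp14.isOpenMap_snd W E.Z)) ?_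
      rintro q ⟨W', w', hw', p, hp⟩
      obtain ⟨l, hl⟩ := E.lift_word W' w' hw'
      obtain ⟨r, hr⟩ := GenSubgrp14.range_lift_snd W l q p (E.z.left.isClosedEmbedding.injective (by
        rw [← hp, ← Scheme.Hom.comp_apply l.left, ← Over.comp_left, hl]))
      refine ⟨W ⊗ W', W ◁ l, ⟨r, hr⟩, ?_⟩
      obtain ⟨v, hv, rfl⟩ := hword W w hw
      obtain ⟨v', hv', hv'e⟩ := hword W' w' hw'
      simp only [MonObj.comp_mul, whiskerLeft_fst_assoc, whiskerLeft_snd_assoc, hl, ← hv'e]
      let a : (W ⟶ N) →* (W ⊗ W' ⟶ N) :=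
        { toFun := fun x => fst W W' ≫ x, map_one' := MonObj.comp_one _, map_mul' := fun x y => MonObj.comp_mul _ _ _ }
      let b : (W' ⟶ N) →* (W ⊗ W' ⟶ N) :=
        { toFun := fun x => snd W W' ≫ x, map_one' := MonObj.comp_one _, map_mul' := fun x y => MonObj.comp_mul _ _ _ }
      have hc : a v * b v' = b v' * a v := by
        rw [← commutatorElement_eq_one_iff_mul_comm, ← Subgroup.mem_bot, ← hd (W ⊗ W'), derivedSeries_succ]
        exact Subgroup.commutator_mem_commutator (map_derivedSeries_le_derivedSeries a m ⟨v, hv, rfl⟩)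
          (map_derivedSeries_le_derivedSeries b m ⟨v', hv', rfl⟩)
      have := congrArg (· ≫ n) hc
      simp only [MonObj.mul_comp] at this
      simpa [a, b] using this
    have hcomm2 : (fst E.Z E.Z ≫ E.z) * (snd E.Z E.Z ≫ E.z) = (snd E.Z E.Z ≫ E.z) * (fst E.Z E.Z ≫ E.z) := by
      refine eq_of_dense_family _ _ (hD.preimage (GenSubgrp14.isOpenMap_fst E.Z E.Z)) ?_
      rintro q ⟨W, w, hw, p, hp⟩
      obtain ⟨l, hl⟩ := E.lift_word W w hw
      obtain ⟨r, hr⟩ := GenSubgrp14.range_lift_fst E.Z l q p (E.z.left.isClosedEmbedding.injective (by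
        rw [← hp, ← Scheme.Hom.comp_apply l.left, ← Over.comp_left, hl]))
      refine ⟨W ⊗ E.Z, l ▷ E.Z, ⟨r, hr⟩, ?_⟩
      simp only [MonObj.comp_mul, whiskerRight_fst_assoc, whiskerRight_snd_assoc, hl]
      exact hcomm1 W w hw
    haveI : Mono E.z := Over.mono_of_mono_left E.z
    haveI : IsCommMonObj E.Z := by
      rw [isCommMonObj_iff_isMulCommutative]
      refine fun X => ⟨⟨fun a b => ?_⟩⟩
      have := congrArg (lift a b ≫ ·) hcomm2
      simp only [MonObj.comp_mul, lift_fst_assoc, lift_snd_assoc] at this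
      rw [← cancel_mono E.z, MonObj.mul_comp, MonObj.mul_comp, this]
    -- normality
    obtain ⟨cN, hcN⟩ := hn (G ⊗ dsrc N m) (fst _ _) (snd _ _ ≫ dword N m)
    have hgen : ∀ (T : 𝒞) (g : T ⟶ G) (t : T ⟶ dsrc N m), ∃ t' : T ⟶ dsrc N m, g * (t ≫ f) * g⁻¹ = t' ≫ f := by
      intro T g t
      choose c hc using fun x : T ⟶ N => hn T g x
      let φ : (T ⟶ N) →* (T ⟶ N) :=
        { toFun := c
          map_one' := by
            rw [← cancel_mono n, ← hc, MonObj.one_comp]
            group
          map_mul' := fun x y => by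
            rw [← cancel_mono n, ← hc, MonObj.mul_comp, MonObj.mul_comp, ← hc, ← hc]
            group }
      obtain ⟨t', ht'⟩ := GrothLib.Flag27.exists_eq_dword m
        (GrothLib.Flag27.image_dval φ m ⟨_, GrothLib.Flag27.comp_dword_mem m t, rfl⟩)
      refine ⟨t', ?_⟩
      show _ = t' ≫ dword N m ≫ n
      rw [← Category.assoc t' (dword N m) n, ht', ← Category.assoc t (dword N m) n]
      exact hc _
    have hw : ∀ (W : 𝒞) (w : W ⟶ G), GenSubgrp14.IsWord (GenSubgrp14.Single f) W w →
        ∃ l : G ⊗ W ⟶ E.Z, l ≫ E.z = fst G W * (snd G W ≫ w) * (fst G W)⁻¹ := by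
      intro W w h
      induction h with
      | one =>
        refine ⟨1, ?_⟩
        rw [MonObj.one_comp, GenSubgrp14.eta_eq_one, MonObj.comp_one]
        group
      | @of A g h =>
        cases h
        obtain ⟨l, hl⟩ := E.lift_word _ _ (.of .mk)
        obtain ⟨t', ht'⟩ := hgen (G ⊗ dsrc N m) (fst _ _) (snd _ _)
        exact ⟨t' ≫ l, by rw [Category.assoc, hl, ← ht']⟩
      | @inv W w _ ih =>
        obtain ⟨l, hl⟩ := ih
        refine ⟨l⁻¹, ?_⟩
        rw [GrpObj.inv_comp, hl, GrpObj.comp_inv]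
        group
      | @mul W W' w w' _ _ ih ih' =>
        obtain ⟨l, hl⟩ := ih
        obtain ⟨l', hl'⟩ := ih'
        refine ⟨(lift (fst G (W ⊗ W')) (snd G (W ⊗ W') ≫ fst W W') ≫ l) *
          (lift (fst G (W ⊗ W')) (snd G (W ⊗ W') ≫ snd W W') ≫ l'), ?_⟩
        rw [MonObj.mul_comp, Category.assoc, Category.assoc, hl, hl']
        simp only [MonObj.comp_mul, GrpObj.comp_inv, lift_fst, lift_snd_assoc, Category.assoc]
        group
    have hnorm : AlgGrp.IsNormalHom E.z := by
      let φ : G ⊗ E.Z ⟶ G := fst G E.Z * (snd G E.Z ≫ E.z) * (fst G E.Z)⁻¹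
      have hsub : Set.range φ.left.base ⊆ Set.range E.z.left.base := by
        rintro _ ⟨q, rfl⟩
        refine closure_minimal ?_ (E.z.left.isClosedEmbedding.isClosed_range.preimage φ.left.continuous)
          (hD.preimage (GenSubgrp14.isOpenMap_snd G E.Z) q)
        rintro q ⟨W, w, h, p, hp⟩
        obtain ⟨l, hl⟩ := E.lift_word W w h
        obtain ⟨r, rfl⟩ := GenSubgrp14.range_lift_snd G l q p (E.z.left.isClosedEmbedding.injective (by
          rw [← hp, ← Scheme.Hom.comp_apply l.left, ← Over.comp_left, hl]))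
        obtain ⟨c, hc⟩ := hw W w h
        refine ⟨c.left r, ?_⟩
        rw [← Scheme.Hom.comp_apply, ← Scheme.Hom.comp_apply, ← Over.comp_left, ← Over.comp_left, hc]
        congr 2
        simp only [φ, MonObj.comp_mul, GrpObj.comp_inv, whiskerLeft_fst, whiskerLeft_snd_assoc, hl]
      obtain ⟨c, hc⟩ := GenSubgrp14.exists_over_lift φ E.z hsub
      intro T g t
      exact ⟨lift g t ≫ c, by
        rw [Category.assoc, hc]
        simp only [φ, MonObj.comp_mul, GrpObj.comp_inv, lift_fst, lift_snd_assoc]⟩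
    -- inclusion in `N`
    obtain ⟨j, hj⟩ := GenSubgrp14.exists_over_lift E.z n (E.range_eq.le.trans (closure_minimal (fun g ⟨W, w, hw', hg⟩ => by
      obtain ⟨v, -, rfl⟩ := hword W w hw'
      exact GenSubgrp14.range_subset_of_comp v n hg) n.left.isClosedEmbedding.isClosed_range))
    refine ⟨E.Z, E.grp, E.z, j, inferInstance, inferInstance, inferInstance, inferInstance, inferInstance, hnorm, hj,
      fun hH => hmin m (Nat.lt_succ_self m) fun X => ?_⟩
    haveI : IsIso E.Z.hom := hH
    have hdw : dword N m = 1 := by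
      obtain ⟨l, hl⟩ := E.lift_word _ _ (.of .mk)
      have hl1 : l = 1 := Over.OverMorphism.ext ((cancel_mono E.Z.hom).1 (by rw [Over.w, Over.w]))
      rw [hl1, MonObj.one_comp] at hl
      rw [← cancel_mono n, MonObj.one_comp]
      exact hl.symm
    refine eq_bot_iff.2 ((GrothLib.Flag27.derivedSeries_le_closure m).trans ((Subgroup.closure_le _).2 fun v hv => ?_))
    obtain ⟨t, rfl⟩ := GrothLib.Flag27.exists_eq_dword m hv
    rw [hdw, MonObj.comp_one]
    exact one_mem _

/-- Reductivity from commutative normal subgroups being tori. -/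
theorem isReductive_of_comm [PerfectField k] (G : 𝒞) [GrpObj G] [IsAffine G.left] [Smooth G.hom]
    [ConnectedSpace G.left]
    (h : ∀ (H : Over (Spec (CommRingCat.of k))) [GrpObj H] [IsCommMonObj H] (i : H ⟶ G) [IsMonHom i],
      IsClosedImmersion i.left → Smooth H.hom → ConnectedSpace H.left → AlgGrp.IsNormalHom i → Red.IsTorus H) :
    Red.IsReductive G := by
  refine isReductive_of_forall G fun s N _ n _ hnc hNs hNc hNn hno hsol => ?_
  haveI := hnc; haveI := hNs; haveI := hNc
  haveI : IsAffine N.left := isAffine_of_isAffineHom n.left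
  by_contra hne
  obtain ⟨H, _, i, j, hi, hcm, hic, hHs, hHc, hHn, hj, hHne⟩ :=
    exists_comm_normal n hNn hsol fun hN => hne (isTrivialGrp_bc _ hN)
  haveI := hi; haveI := hcm; haveI := hic; haveI := hHs; haveI := hHc
  haveI : Mono n := Over.mono_of_mono_left n
  haveI : Mono i := Over.mono_of_mono_left i
  haveI : IsMonHom (j ≫ n) := by rw [hj]; infer_instance
  haveI : IsMonHom j := GrothLib.Flag27.isMonHom_of_comp j n
  haveI : Mono (j ≫ n) := by rw [hj]; infer_instance
  haveI : Mono j := mono_of_mono j n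
  haveI : (Over.pullback (Red.geomPt s)).IsRightAdjoint := (Over.mapPullbackAdj _).isRightAdjoint
  haveI : Mono ((Over.pullback (Red.geomPt s)).map j) := Functor.map_mono _ j
  haveI : IsIso (pullback.snd H.hom (Red.geomPt s)) :=
    hno _ ((Over.pullback (Red.geomPt s)).map j) (GrothLib.Flag27.isTorus_bc_field _ (h H i hic hHs hHc hHn))
  haveI := GrothLib.Flag27.flat_to_field (Red.geomPt s)
  haveI := GrothLib.Flag27.surjective_to_field (Red.geomPt s)
  exact hHne (MorphismProperty.of_pullback_snd_of_descendsAlong (P := MorphismProperty.isomorphisms Scheme)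
    (Q := @Surjective ⊓ @Flat ⊓ @QuasiCompact) (f := H.hom) (g := Red.geomPt s) ⟨⟨‹_›, ‹_›⟩, inferInstance⟩
    ‹IsIso (pullback.snd H.hom (Red.geomPt s))›)

/-- Semisimplicity from the triviality of commutative normal subgroups. -/
theorem isSemisimple_of_comm [PerfectField k] (G : 𝒞) [GrpObj G] [IsAffine G.left] [Smooth G.hom]
    [ConnectedSpace G.left]
    (h : ∀ (H : Over (Spec (CommRingCat.of k))) [GrpObj H] [IsCommMonObj H] (i : H ⟶ G) [IsMonHom i],
      IsClosedImmersion i.left → Smooth H.hom → ConnectedSpace H.left → AlgGrp.IsNormalHom i → Red.IsTrivialGrp H) :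
    Red.IsSemisimple G := by
  have hred : Red.IsReductive G := by
    refine isReductive_of_forall G fun s N _ n _ hnc hNs hNc hNn hno hsol => ?_
    haveI := hnc; haveI := hNs; haveI := hNc
    by_contra hne
    obtain ⟨H, _, i, j, hi, hcm, hic, hHs, hHc, hHn, hj, hHne⟩ :=
      exists_comm_normal n hNn hsol fun hN => hne (isTrivialGrp_bc _ hN)
    exact hHne (@h H _ hcm i hi hic hHs hHc hHn)
  refine isSemisimple_of_reductive hred fun T _ t _ _ hT hc => ?_
  obtain ⟨h1, h2, h3⟩ := torus_closed t hT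
  haveI := isCommMonObj_torus hT
  haveI : IsIso T.hom := h T t h1 h2 h3 fun X g x => ⟨x, by rw [← hc X x g, mul_inv_cancel_right]⟩
  have h4 : (𝟙 T : T ⟶ T) = 1 := Over.OverMorphism.ext ((cancel_mono T.hom).1 (by rw [Over.w, Over.w]))
  rw [← Category.id_comp t, h4, MonObj.one_comp]

end GrothLib.UnipFix19
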