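import Groth.Agent.Lib.UnipFix19.RedProps
import Groth.Agent.Lib.Flag27.NoSubtorus
import Groth.Agent.Lib.SubPre14.Basic
import Groth.Agent.Lib.Chevalley.AffineQuot
import Groth.Agent.Lib.SplitTors24.Point
import Groth.Agent.Lib.CartTorsor.OrbitStab
import Groth.Agent.Lib.Flag27.More

/-!
# Quotients by radicals
-/

set_option autoImplicit false
set_option linter.all false
set_option backward.isDefEq.respectTransparency false

universe u

open CategoryTheory CategoryTheory.Limits MonoidalCategory CartesianMonoidalCategory MonObj GrpObj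
open AlgebraicGeometry TopologicalSpace

noncomputable section

namespace GrothLib.UnipFix19

variable {k : Type u} [Field k] [IsAlgClosed k]

/-- The inverse image of a smooth connected normal subgroup along a quotient by a smooth connected subgroup. -/
theorem exists_preimage {G G' R U : Over (Spec (CommRingCat.of k))} [GrpObj G] [GrpObj G'] [GrpObj R] [GrpObj U]
    [IsAffine G.left] [Smooth G.hom] [Smooth G'.hom] (q : G ⟶ G') [IsMonHom q] [Surjective q.left]
    (r : R ⟶ G) [IsMonHom r] [Smooth R.hom] [ConnectedSpace R.left] (hq : AlgGrp.IsKernel r q)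
    (i : U ⟶ G') [IsMonHom i] [IsClosedImmersion i.left] [Smooth U.hom] [ConnectedSpace U.left]
    (hN : AlgGrp.IsNormalHom i) :
    ∃ (N : Over (Spec (CommRingCat.of k))) (_ : GrpObj N) (n : N ⟶ G) (a : N ⟶ U), IsMonHom n ∧ IsMonHom a ∧
      IsClosedImmersion n.left ∧ Smooth N.hom ∧ ConnectedSpace N.left ∧ AlgGrp.IsNormalHom n ∧ Surjective a.left ∧
      a ≫ i = n ≫ q := by
  haveI : IsAffine G'.left := Chevalley.isAffine_of_surjective_hom q
  haveI : Mono i := Over.mono_of_mono_left i
  let P : Over (Spec (CommRingCat.of k)) := Over.mk (pullback.snd i.left q.left ≫ G.hom)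
  let b : P ⟶ G := Over.homMk (pullback.snd i.left q.left) rfl
  let a : P ⟶ U := Over.homMk (pullback.fst i.left q.left) (by
    show pullback.fst i.left q.left ≫ U.hom = pullback.snd i.left q.left ≫ G.hom
    rw [← Over.w i, pullback.condition_assoc, Over.w q])
  have hsqL : IsPullback a.left b.left i.left q.left := IsPullback.of_hasPullback i.left q.left
  have hsq : IsPullback a b i q := IsPullback.of_map (Over.forget _) (Over.OverMorphism.ext hsqL.w) hsqL
  haveI : IsClosedImmersion b.left := inferInstanceAs (IsClosedImmersion (pullback.snd i.left q.left))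
  haveI : Surjective a.left := inferInstanceAs (Surjective (pullback.fst i.left q.left))
  obtain ⟨hP, ha, hb⟩ := GrothLib.SubPre14.exists_grpObj_pullback q i a b hsq
  haveI := ha; haveI := hb
  haveI : Mono b := Over.mono_of_mono_left b
  haveI : IsAffine P.left := isAffine_of_isAffineHom b.left
  haveI : IsAffine U.left := isAffine_of_isAffineHom i.left
  haveI : LocallyOfFiniteType P.hom := by rw [← Over.w b]; infer_instance
  haveI : QuasiCompact a.left := inferInstance
  have h1 : (1 : R ⟶ U) ≫ i = r ≫ q := by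
    rw [MonObj.one_comp, hq.w, ← Hom.one_def]
  let c : R ⟶ P := hsq.lift 1 r h1
  have hk : GrothLib.SubPre14.KerPairFactors a c := by
    let W := pullback a a
    have hd : ((pullback.fst a a)⁻¹ * pullback.snd a a) ≫ a = 1 := by
      rw [MonObj.mul_comp, GrpObj.inv_comp, pullback.condition, inv_mul_cancel]
    have hw : (((pullback.fst a a)⁻¹ * pullback.snd a a) ≫ b) ≫ q = toUnit W ≫ η[G'] := by
      rw [Category.assoc, ← hsq.w, reassoc_of% hd, MonObj.one_comp, Hom.one_def]
    refine ⟨W, _, _, hq.lift _ (toUnit W) hw, IsPullback.of_hasPullback a a, ?_⟩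
    rw [← cancel_mono b, Category.assoc, hsq.lift_snd, hq.lift_fst]
  haveI : Smooth P.hom := GrothLib.SubPre14.smooth_algClosed a c hk
  haveI : IsReduced U.left := GrothLib.RedSmooth.isReduced_of_smooth U.hom
  haveI : Flat a.left := GrothLib.GrpSchField.flat_hom a
  haveI : LocallyOfFiniteType a.left := by
    haveI : LocallyOfFiniteType (a.left ≫ U.hom) := by rw [Over.w a]; infer_instance
    exact locallyOfFiniteType_of_comp a.left U.hom
  haveI : IsLocallyNoetherian U.left := LocallyOfFiniteType.isLocallyNoetherian U.hom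
  haveI : LocallyOfFinitePresentation a.left := inferInstance
  haveI : ConnectedSpace P.left := GrothLib.SubPre14.connected_field a a.left.isOpenMap c hk
  refine ⟨P, hP, b, a, hb, ha, ‹_›, ‹_›, ‹_›, fun T g x => ?_, ‹_›, hsq.w⟩
  obtain ⟨u, hu⟩ := hN T (g ≫ q) (x ≫ a)
  have h2 : u ≫ i = (g * (x ≫ b) * g⁻¹) ≫ q := by
    rw [← hu, MonObj.mul_comp, MonObj.mul_comp, GrpObj.inv_comp, Category.assoc, Category.assoc, hsq.w]
  exact ⟨hsq.lift u _ h2, (hsq.lift_snd _ _ h2).symm⟩

/-- An extension with solvable outer groups is solvable. -/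
theorem isSolvableGrp_preimage {G G' R U N : Over (Spec (CommRingCat.of k))} [GrpObj G] [GrpObj G'] [GrpObj R]
    [GrpObj U] [GrpObj N] [Smooth N.hom] [IsSeparated N.hom] (q : G ⟶ G') [IsMonHom q]
    (r : R ⟶ G) [IsMonHom r] [Mono r] (hq : AlgGrp.IsKernel r q) (n : N ⟶ G) [IsMonHom n] [Mono n]
    (a : N ⟶ U) [IsMonHom a] (i : U ⟶ G') [IsMonHom i] (hw : a ≫ i = n ≫ q)
    (hR : IsSolvable (𝟙_ (Over (Spec (CommRingCat.of k))) ⟶ R))
    (hU : IsSolvable (𝟙_ (Over (Spec (CommRingCat.of k))) ⟶ U)) : Red.IsSolvableGrp N := by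
  refine GrothLib.Flag27.isSolvableGrp_of_points ?_
  let A := 𝟙_ (Over (Spec (CommRingCat.of k)))
  let f := GrothLib.Flag27.ptsHom a
  let S : Subgroup (A ⟶ R) :=
    { carrier := {z | ∃ x : A ⟶ N, x ≫ n = z ≫ r}
      one_mem' := ⟨1, by rw [MonObj.one_comp, MonObj.one_comp]⟩
      mul_mem' := fun {z w} hz hw => by
        obtain ⟨x, hx⟩ := hz
        obtain ⟨y, hy⟩ := hw
        exact ⟨x * y, by rw [MonObj.mul_comp, MonObj.mul_comp, hx, hy]⟩
      inv_mem' := fun {z} hz => by
        obtain ⟨x, hx⟩ := hz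
        exact ⟨x⁻¹, by rw [GrpObj.inv_comp, GrpObj.inv_comp, hx]⟩ }
  let g : S →* (A ⟶ N) :=
    { toFun := fun z => z.2.choose
      map_one' := by
        rw [← cancel_mono n, (1 : S).2.choose_spec]
        simp [MonObj.one_comp]
      map_mul' := fun z w => by
        rw [← cancel_mono n, (z * w).2.choose_spec, MonObj.mul_comp, z.2.choose_spec, w.2.choose_spec,
          Subgroup.coe_mul, MonObj.mul_comp] }
  haveI : Group.IsSolvable (A ⟶ R) := hR
  haveI : Group.IsSolvable (A ⟶ U) := hU
  refine solvable_of_ker_le_range g f fun x hx => ?_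
  have hx' : x ≫ a = 1 := hx
  have h1 : (x ≫ n) ≫ q = toUnit A ≫ η[G'] := by
    rw [Category.assoc, ← hw, reassoc_of% hx', MonObj.one_comp, Hom.one_def]
  refine ⟨⟨hq.lift _ (toUnit A) h1, x, (hq.lift_fst _ _ h1).symm⟩, ?_⟩
  show Exists.choose _ = x
  have hz : (⟨hq.lift _ (toUnit A) h1, x, (hq.lift_fst _ _ h1).symm⟩ : S).2.choose ≫ n = x ≫ n := by
    rw [(⟨hq.lift _ (toUnit A) h1, x, (hq.lift_fst _ _ h1).symm⟩ : S).2.choose_spec, hq.lift_fst]
  exact (cancel_mono n).1 hz

/-- The quotient of a reductive group by a torus containing all normal subtori is semisimple. -/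
theorem isSemisimpleOver_quotient {G G' R : Over (Spec (CommRingCat.of k))} [GrpObj G] [GrpObj G'] [GrpObj R]
    (hG : Red.IsReductiveOver k G) [Smooth G'.hom] (q : G ⟶ G') [IsMonHom q] [Surjective q.left]
    (r : R ⟶ G) [IsMonHom r] [Mono r] (hR : Red.IsTorus R) (hq : AlgGrp.IsKernel r q)
    (hmax : ∀ (N : Over (Spec (CommRingCat.of k))) [GrpObj N] (n : N ⟶ G) [IsMonHom n] [Mono n],
      Red.IsTorus N → (∀ (X : Over (Spec (CommRingCat.of k))) (t : X ⟶ N) (g : X ⟶ G),
        (t ≫ n) * g = g * (t ≫ n)) → ∃ f : N ⟶ R, f ≫ r = n) :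
    Red.IsSemisimpleOver k G' := by
  obtain ⟨ha, hs, hc, -⟩ := id hG
  haveI := ha; haveI := hs; haveI := hc
  obtain ⟨hRs, hRq, hRc, -⟩ := GrothLib.IsogProps19.torus_props R hR
  haveI := hRs; haveI := hRc
  haveI : IsAffine G'.left := Chevalley.isAffine_of_surjective_hom q
  haveI : ConnectedSpace G'.left := q.left.surjective.connectedSpace q.left.continuous
  haveI : IsAffineHom G.hom := isAffineHom_of_isAffine _
  have hRsol : IsSolvable (𝟙_ (Over (Spec (CommRingCat.of k))) ⟶ R) := by
    haveI := GrothLib.IsogProps19.isCommMonObj_of_torus R hR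
    exact GrothLib.Flag27.isSolvable_points (isSolvableGrp_of_comm R)
  have key : ∀ (U : Over (Spec (CommRingCat.of k))) [GrpObj U] (i : U ⟶ G') [IsMonHom i],
      IsClosedImmersion i.left → Smooth U.hom → ConnectedSpace U.left → AlgGrp.IsNormalHom i →
      IsSolvable (𝟙_ (Over (Spec (CommRingCat.of k))) ⟶ U) → Red.IsTrivialGrp U := by
    intro U _ i _ hi hUs hUc hUn hUsol
    haveI := hi; haveI := hUs; haveI := hUc
    obtain ⟨N, _, n, a, hn, ha', hnc, hNs, hNc, hNn, hsurj, hw⟩ := exists_preimage q r hq i hUn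
    haveI := hn; haveI := ha'; haveI := hnc; haveI := hNs; haveI := hNc; haveI := hsurj
    haveI : Mono n := Over.mono_of_mono_left n
    haveI : IsAffine N.left := isAffine_of_isAffineHom n.left
    haveI : IsSeparated N.hom := inferInstance
    have hNsol := isSolvableGrp_preimage q r hq n a i hw hRsol hUsol
    have hT : Red.IsTorus N := isTorus_of_solvable (isReductiveOver_normal hG n hNn) hNsol
    obtain ⟨f, hf⟩ := hmax N n hT fun X t g =>
      (central_of_normal_multType n (isMultTypeFT_of_isTorus hT) hNn X g t).symm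
    have h1 : a = 1 := by
      haveI : Mono i := Over.mono_of_mono_left i
      rw [← cancel_mono i, hw, ← hf, Category.assoc, hq.w, MonObj.one_comp, Hom.one_def, ← Category.assoc,
        toUnit_unique (f ≫ toUnit R) (toUnit N)]
    haveI : IsSplitEpi U.hom :=
      IsSplitEpi.mk' ⟨(η[U] : 𝟙_ (Over (Spec (CommRingCat.of k))) ⟶ U).left, Over.w _⟩
    haveI : Subsingleton U.left := by
      refine ⟨fun x y => ?_⟩
      obtain ⟨x', rfl⟩ := a.left.surjective x
      obtain ⟨y', rfl⟩ := a.left.surjective y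
      rw [h1, Hom.one_def, Over.comp_left, Scheme.Hom.comp_apply, Scheme.Hom.comp_apply]
      exact congrArg _ (Subsingleton.elim (α := PrimeSpectrum k) _ _)
    haveI : Finite U.left := inferInstance
    haveI : IsFinite U.hom := (GrothLib.CartTorsor.isFinite_iff_finite U.hom).2 inferInstance
    exact GrothLib.IsogProps19.isTrivialGrp_of_isFinite U
  refine ⟨⟨inferInstance, inferInstance, inferInstance, fun U _ i _ hi hUs hUc hUn hU => ?_⟩,
    fun T _ i _ hi hn hT => ?_⟩
  · haveI := hi; haveI := hUs; haveI := hUc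
    haveI : IsAffine U.left := isAffine_of_isAffineHom i.left
    exact key U i hi hUs hUc hUn (GrothLib.Flag27.isUnip_of_noSubtorus hU).2
  · obtain ⟨h1, h2, h3, -⟩ := GrothLib.IsogProps19.torus_props T hT
    haveI := GrothLib.IsogProps19.isCommMonObj_of_torus T hT
    exact key T i hi h1 h3 hn (GrothLib.Flag27.isSolvable_points (isSolvableGrp_of_comm T))

end GrothLib.UnipFix19
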