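import Groth.Agent.Lib.UnipFix19.RedProps
import Groth.Agent.Lib.QuotTorus14.Split

/-!
# The largest central torus commutes with passage to an algebraic closure
-/

set_option autoImplicit false
set_option linter.all false
set_option backward.isDefEq.respectTransparency false

universe u

open CategoryTheory CategoryTheory.Limits MonoidalCategory CartesianMonoidalCategory MonObj GrpObj
open AlgebraicGeometry TopologicalSpace

noncomputable section

namespace GrothLib.UnipFix19

variable {k : Type u} [Field k]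

set_option synthInstance.maxHeartbeats 100000 in
/-- Central tori of a geometric fibre factor through the largest central torus. -/
theorem exists_lift_central_torus {G R : Over (Spec (CommRingCat.of k))} [GrpObj G] [GrpObj R] [IsAffine G.left]
    [LocallyOfFiniteType G.hom] (r : R ⟶ G) [IsMonHom r]
    (hmax : ∀ (R' : Over (Spec (CommRingCat.of k))) [GrpObj R'] (r' : R' ⟶ G) [IsMonHom r'] [Mono r'],
      Red.IsTorus R' → (∀ (X : Over (Spec (CommRingCat.of k))) (t : X ⟶ R') (g : X ⟶ G),
        (t ≫ r') * g = g * (t ≫ r')) → ∃ f : R' ⟶ R, f ≫ r = r')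
    (s : ↥(Spec (CommRingCat.of k)))
    (N : Over (Spec (CommRingCat.of (AlgebraicClosure ((Spec (CommRingCat.of k)).residueField s))))) [GrpObj N]
    (n : N ⟶ Red.bc (Red.geomPt s) G) [IsMonHom n] [Mono n] (hN : Red.IsTorus N)
    (hc : ∀ (X : Over (Spec (CommRingCat.of (AlgebraicClosure ((Spec (CommRingCat.of k)).residueField s)))))
      (t : X ⟶ N) (g : X ⟶ Red.bc (Red.geomPt s) G), (t ≫ n) * g = g * (t ≫ n)) :
    ∃ f : N ⟶ Red.bc (Red.geomPt s) R, f ≫ (Over.pullback (Red.geomPt s)).map r = n := by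
  obtain ⟨Z, gZ, z, hm, hcl, hmono, hMT, hcen, hu⟩ := GrothLib.CentMT14.exists_reductiveCentre G
  haveI := hm; haveI := hmono
  obtain ⟨T, gT, i, hmaxT, -⟩ := GrothLib.MultMaxTorus14.exists_maximalTorus hMT
  obtain ⟨him, himo, hTt, hgeo⟩ := hmaxT
  haveI := him; haveI := himo
  obtain ⟨g₀, hg₀⟩ := hmax T (i ≫ z) hTt fun X t g => by
    rw [← Category.assoc]
    exact hcen X (t ≫ i) g
  obtain ⟨w, hw⟩ := hu _ (Red.geomPt s) N n (isMultTypeFT_of_isTorus hN) hc
  haveI : (Over.pullback (Red.geomPt s)).IsRightAdjoint := (Over.mapPullbackAdj _).isRightAdjoint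
  haveI : Mono ((Over.pullback (Red.geomPt s)).map z) := Functor.map_mono _ z
  haveI : Mono ((Over.pullback (Red.geomPt s)).map i) := Functor.map_mono _ i
  haveI : Mono (w ≫ (Over.pullback (Red.geomPt s)).map z) := by rw [hw]; infer_instance
  haveI : Mono w := mono_of_mono w ((Over.pullback (Red.geomPt s)).map z)
  haveI : IsMonHom (w ≫ (Over.pullback (Red.geomPt s)).map z) := by rw [hw]; infer_instance
  haveI : IsMonHom w := GrothLib.Flag27.isMonHom_of_comp w ((Over.pullback (Red.geomPt s)).map z)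
  have hMTK : SGA3x.IsMultTypeFT (Red.bc (Red.geomPt s) Z) :=
    GrothLib.QuotTorus14.isMultTypeFT_of_charts
      ((GrothLib.DiagGrp.hasChartsFpqc_of_isMultTypeFT hMT).baseChange (Red.geomPt s))
  obtain ⟨M', gM', i', hmax', hu'⟩ := GrothLib.MultMaxTorus14.exists_maximalTorus hMTK
  haveI := hmax'.1; haveI := hmax'.2.1
  obtain ⟨f, hf⟩ := hu' (Red.bc (Red.geomPt s) T) ((Over.pullback (Red.geomPt s)).map i)
    (GrothLib.Flag27.isTorus_bc_field _ hTt)
  haveI : IsIso f := hgeo s M' i' f hmax'.2.2.1 hf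
  obtain ⟨f', hf'⟩ := hu' N w hN
  refine ⟨f' ≫ inv f ≫ (Over.pullback (Red.geomPt s)).map g₀, ?_⟩
  rw [Category.assoc, Category.assoc, ← Functor.map_comp, hg₀, Functor.map_comp, ← hf, Category.assoc,
    IsIso.inv_hom_id_assoc, ← Category.assoc, hf', hw]

end GrothLib.UnipFix19
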