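import Groth.Agent.Lib.UnipFix19.GalStable
import Groth.Agent.Lib.UnipFix19.RadicalBC
import Groth.Agent.Lib.UnipFix19.Quotient
import Groth.Agent.S5366

/-!
# Unipotent radicals over perfect fields
-/

set_option autoImplicit false
set_option linter.all false
set_option backward.isDefEq.respectTransparency false

universe u

open CategoryTheory CategoryTheory.Limits MonoidalCategory CartesianMonoidalCategory MonObj GrpObj
open AlgebraicGeometry TopologicalSpace

noncomputable section

set_option synthInstance.maxHeartbeats 200000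
set_option maxHeartbeats 2000000

namespace GrothLib.UnipFix19

variable {k : Type u} [Field k]

/-- Geometric points of a field are integral. -/
theorem isIntegralHom_geomPt (s : ↥(Spec (CommRingCat.of k))) : IsIntegralHom (Red.geomPt s) := by
  haveI : IsIntegralHom (Spec.map (CommRingCat.ofHom (algebraMap ((Spec (CommRingCat.of k)).residueField s)
      (AlgebraicClosure ((Spec (CommRingCat.of k)).residueField s))))) := by
    rw [IsIntegralHom.SpecMap_iff]
    exact Algebra.IsIntegral.isIntegral
  haveI : IsClosedImmersion ((Spec (CommRingCat.of k)).fromSpecResidueField s) := by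
    refine IsClosedImmersion.of_isPreimmersion _ ?_
    haveI : Subsingleton ↥(Spec (CommRingCat.of k)) := inferInstanceAs (Subsingleton (PrimeSpectrum k))
    exact Set.Subsingleton.isClosed Set.subsingleton_of_subsingleton
  show IsIntegralHom (Spec.map _ ≫ _)
  infer_instance

/-- Solvability descends along a geometric point. -/
theorem isSolvableGrp_of_bc {K : Type u} [Field K] [IsAlgClosed K] (f : Spec (CommRingCat.of K) ⟶ Spec (CommRingCat.of k))
    {N : Over (Spec (CommRingCat.of k))} [GrpObj N] [Smooth N.hom] [QuasiCompact N.hom]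
    (h : Red.IsSolvableGrp (Red.bc f N)) : Red.IsSolvableGrp N := by
  letI : Algebra k K := (Spec.preimage f).hom.toAlgebra
  obtain ⟨n, hn⟩ := h
  refine ⟨n, (Groth.Agent.S5366.result k N K n).1.2 ?_⟩
  let e : (Over.map f).obj (Over.mk (𝟙 (Spec (CommRingCat.of K)))) ≅
      Over.mk (Spec.map (CommRingCat.ofHom (algebraMap k K))) :=
    Over.isoMk (Iso.refl _) (by
      show 𝟙 _ ≫ Spec.map _ = 𝟙 _ ≫ f
      congr 1
      exact Spec.map_preimage f)
  exact (GrothLib.GrpClass19.derived_congr
    ((GrothLib.GrpClass19.congrSrc N e.symm).trans (GrothLib.DiagGrp.bcPointMulEquiv f N _)) n).2 (hn _)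

/-- Twists of the largest unipotent normal subgroup stay inside it. -/
theorem twistStable_largest {K : Type u} [Field K] [IsAlgClosed K] (f : Spec (CommRingCat.of K) ⟶ Spec (CommRingCat.of k))
    {G : Over (Spec (CommRingCat.of k))} [GrpObj G] [IsAffine G.left] [Smooth G.hom]
    (P : UnipNormal (Red.bc f G)) (hP : ∀ Q : UnipNormal (Red.bc f G), ∃ l : Q.U ⟶ P.U, l ≫ P.u = Q.u) :
    TwistStable f P.u := by
  intro σ hσ hσi
  haveI := hσi
  haveI : IsAffine (Red.bc f G).left := GrothLib.Flag27.isAffine_bc f G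
  haveI : IsAffine P.U.left := isAffine_of_isAffineHom P.u.left
  let E := GrothLib.GrpLim14.E hσ G
  haveI : IsMonHom E.hom := (GrothLib.GrpLim14.isMonHom_E hσ G).1
  haveI : IsMonHom E.inv := (GrothLib.GrpLim14.isMonHom_E hσ G).2
  let u' := (Over.pullback σ).map P.u ≫ E.hom
  haveI : IsClosedImmersion u'.left := by
    show IsClosedImmersion ((Over.pullback σ).map P.u ≫ E.hom).left
    rw [Over.comp_left]
    haveI : IsClosedImmersion ((Over.pullback σ).map P.u).left :=
      GrothLib.Flag27.property_map σ P.u P.isClosedImmersion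
    haveI : IsIso E.hom.left := ((Over.forget _).mapIso E).isIso_hom
    infer_instance
  haveI := GrothLib.Flag27.smooth_bc σ P.U
  haveI := GrothLib.Flag27.connectedSpace_bc σ P.U
  haveI : IsAffine (Red.bc σ P.U).left := GrothLib.Flag27.isAffine_bc σ P.U
  exact hP ⟨Red.bc σ P.U, inferInstance, u', inferInstance, inferInstance, inferInstance, inferInstance, (fun T g x => by
      obtain ⟨x', hx'⟩ := isNormalHom_map σ P.normal T (g ≫ E.inv) x
      refine ⟨x', ?_⟩
      have := congrArg (· ≫ E.hom) hx'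
      simpa [u', MonObj.mul_comp, GrpObj.inv_comp] using this),
    fix_of_hasNoSubtorus (GrothLib.Flag27.hasNoSubtorus_bc σ (hasNoSubtorus_of_fix P.fix))⟩

variable [PerfectField k]

/-- Over a perfect field the geometric unipotent radical is defined over the field. -/
theorem exists_geomRadical' {K : Type u} [Field K] [IsAlgClosed K]
    (f : Spec (CommRingCat.of K) ⟶ Spec (CommRingCat.of k)) [IsIntegralHom f]
    (G : Over (Spec (CommRingCat.of k))) [GrpObj G] [IsAffine G.left] [Smooth G.hom] :
    ∃ (N : Over (Spec (CommRingCat.of k))) (_ : GrpObj N) (n : N ⟶ G), IsMonHom n ∧ IsClosedImmersion n.left ∧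
      Smooth N.hom ∧ ConnectedSpace N.left ∧ AlgGrp.IsNormalHom n ∧
      Red.HasNoSubtorus K (Red.bc f N) ∧
      Red.IsSolvableGrp N ∧
      ∀ (U : Over (Spec (CommRingCat.of K))) [GrpObj U]
        (i : U ⟶ Red.bc f G) [IsMonHom i], IsClosedImmersion i.left → Smooth U.hom → ConnectedSpace U.left →
        AlgGrp.IsNormalHom i → Red.HasNoSubtorus K U →
        ∃ l : U ⟶ Red.bc f N, l ≫ (Over.pullback f).map n = i := by
  haveI := GrothLib.Flag27.smooth_bc f G
  haveI : IsAffine (Red.bc f G).left := GrothLib.Flag27.isAffine_bc f G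
  obtain ⟨P, hP⟩ := exists_largest (G := Red.bc f G)
  haveI : IsAffine P.U.left := isAffine_of_isAffineHom P.u.left
  obtain ⟨N, grpN, n, hn, hnc, hNs, hNc, hNn, e, he⟩ := exists_descend f P.u (twistStable_largest f P hP) P.normal
  haveI := hn; haveI := hnc; haveI := hNs; haveI := hNc
  haveI : Mono P.u := Over.mono_of_mono_left P.u
  haveI : IsMonHom (e.hom ≫ P.u) := by rw [he]; infer_instance
  haveI : IsMonHom e.hom := GrothLib.Flag27.isMonHom_of_comp e.hom P.u
  have hno := GrothLib.Flag27.hasNoSubtorus_of_mono e.hom (hasNoSubtorus_of_fix P.fix)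
  haveI := GrothLib.Flag27.smooth_bc f N
  haveI := GrothLib.Flag27.connectedSpace_bc f N
  haveI : IsAffine N.left := isAffine_of_isAffineHom n.left
  haveI : IsAffine (Red.bc f N).left := GrothLib.Flag27.isAffine_bc f N
  refine ⟨N, grpN, n, hn, hnc, hNs, hNc, hNn, hno, isSolvableGrp_of_bc f
    (GrothLib.Flag27.isSolvableGrp_of_points (GrothLib.Flag27.isUnip_of_noSubtorus hno).2), ?_⟩
  intro U _ i _ hi hs hc hin hU
  haveI := hi; haveI := hs; haveI := hc
  haveI : IsAffine U.left := isAffine_of_isAffineHom i.left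
  obtain ⟨l, hl⟩ := hP ⟨U, inferInstance, i, inferInstance, hi, hs, hc, hin, fix_of_hasNoSubtorus hU⟩
  exact ⟨l ≫ e.inv, by rw [Category.assoc, ← he, Iso.inv_hom_id_assoc, hl]⟩

/-- Over a perfect field the geometric unipotent radical is defined over the field. -/
theorem exists_geomRadical (G : Over (Spec (CommRingCat.of k))) [GrpObj G] [IsAffine G.left] [Smooth G.hom]
    (s : ↥(Spec (CommRingCat.of k))) :
    ∃ (N : Over (Spec (CommRingCat.of k))) (_ : GrpObj N) (n : N ⟶ G), IsMonHom n ∧ IsClosedImmersion n.left ∧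
      Smooth N.hom ∧ ConnectedSpace N.left ∧ AlgGrp.IsNormalHom n ∧
      Red.HasNoSubtorus (AlgebraicClosure ((Spec (CommRingCat.of k)).residueField s)) (Red.geomFibre s N) ∧
      Red.IsSolvableGrp N ∧
      ∀ (U : Over (Spec (CommRingCat.of (AlgebraicClosure ((Spec (CommRingCat.of k)).residueField s))))) [GrpObj U]
        (i : U ⟶ Red.geomFibre s G) [IsMonHom i], IsClosedImmersion i.left → Smooth U.hom → ConnectedSpace U.left →
        AlgGrp.IsNormalHom i → Red.HasNoSubtorus (AlgebraicClosure ((Spec (CommRingCat.of k)).residueField s)) U →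
        ∃ l : U ⟶ Red.geomFibre s N, l ≫ (Over.pullback (Red.geomPt s)).map n = i := by
  haveI := isIntegralHom_geomPt s
  exact exists_geomRadical' (Red.geomPt s) G

/-- Reductivity over a perfect field from the triviality of the descended radical. -/
theorem isReductive_of_forall (G : Over (Spec (CommRingCat.of k))) [GrpObj G] [IsAffine G.left] [Smooth G.hom]
    [ConnectedSpace G.left]
    (h : ∀ (s : ↥(Spec (CommRingCat.of k))) (N : Over (Spec (CommRingCat.of k))) [GrpObj N] (n : N ⟶ G) [IsMonHom n],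
      IsClosedImmersion n.left → Smooth N.hom → ConnectedSpace N.left → AlgGrp.IsNormalHom n →
      Red.HasNoSubtorus (AlgebraicClosure ((Spec (CommRingCat.of k)).residueField s)) (Red.geomFibre s N) →
      Red.IsSolvableGrp N → Red.IsTrivialGrp (Red.geomFibre s N)) : Red.IsReductive G := by
  refine ⟨isAffineHom_of_isAffine _, inferInstance, fun s => ?_⟩
  refine ⟨GrothLib.Flag27.isAffine_bc _ G, GrothLib.Flag27.smooth_bc _ G, GrothLib.Flag27.connectedSpace_bc _ G,
    fun U _ i _ hi hs hc hin hU => ?_⟩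
  obtain ⟨N, _, n, hn, hnc, hNs, hNc, hNn, hno, hsol, hu⟩ := exists_geomRadical G s
  haveI := hn
  obtain ⟨l, hl⟩ := hu U i hi hs hc hin hU
  haveI := hi
  exact isTrivialGrp_of_factor l ((Over.pullback (Red.geomPt s)).map n) i hl (h s N n hnc hNs hNc hNn hno hsol)

omit [PerfectField k] in
/-- A reductive group without central tori is semisimple. -/
theorem isSemisimple_of_reductive {G : Over (Spec (CommRingCat.of k))} [GrpObj G] (hG : Red.IsReductive G)
    (h : ∀ (R' : Over (Spec (CommRingCat.of k))) [GrpObj R'] (r' : R' ⟶ G) [IsMonHom r'] [Mono r'],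
      Red.IsTorus R' → (∀ (X : Over (Spec (CommRingCat.of k))) (t : X ⟶ R') (g : X ⟶ G),
        (t ≫ r') * g = g * (t ≫ r')) → r' = 1) : Red.IsSemisimple G := by
  obtain ⟨ha, hs, hc⟩ := props_of_isReductive hG
  haveI := ha; haveI := hs; haveI := hc
  refine ⟨hG.1, hs, fun s => ⟨hG.2.2 s, fun T _ i _ hi hn hT => ?_⟩⟩
  obtain ⟨hga, hgs, hgc, -⟩ := hG.2.2 s
  haveI := hga; haveI := hgs; haveI := hgc; haveI := hi
  haveI : Mono i := Over.mono_of_mono_left i
  haveI : IsMonHom (η[G] : 𝟙_ (Over (Spec (CommRingCat.of k))) ⟶ G) := inferInstance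
  obtain ⟨l, hl⟩ := exists_lift_central_torus (η[G] : 𝟙_ (Over (Spec (CommRingCat.of k))) ⟶ G)
    (fun R' _ r' _ _ hR' hc' => ⟨toUnit R', by rw [← Hom.one_def, h R' r' hR' hc']⟩) s T i hT
    fun X t g => (central_of_normal_multType i (isMultTypeFT_of_isTorus hT) hn X g t).symm
  have hη : (η[G] : 𝟙_ (Over (Spec (CommRingCat.of k))) ⟶ G) = 1 := by
    rw [Hom.one_def, toUnit_unique (toUnit (𝟙_ (Over (Spec (CommRingCat.of k))))) (𝟙 _), Category.id_comp]
  rw [hη, Functor.map_one, MonObj.comp_one] at hl
  show IsIso T.hom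
  haveI : Mono (1 : T ⟶ Red.geomFibre s G) := by rw [hl]; infer_instance
  have h1 : (𝟙 T : T ⟶ T) = 1 := by
    rw [← cancel_mono (1 : T ⟶ Red.geomFibre s G), MonObj.comp_one, MonObj.comp_one]
  refine ⟨(η[T] : 𝟙_ _ ⟶ T).left, ?_, Over.w η[T]⟩
  have h2 := congrArg (fun w : T ⟶ T => w.left) h1
  rw [Hom.one_def, Over.comp_left, Over.id_left, CartesianMonoidalCategory.toUnit_unique (toUnit T) (toUnit T)] at h2
  rw [Over.toUnit_left] at h2
  exact h2.symm

end GrothLib.UnipFix19
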