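import Groth.Agent.Lib.UnipFix19.Normal
import Groth.Agent.Lib.IsogProps19.Torus
import Groth.Agent.Lib.CentMT14.Reductive
import Groth.Agent.Lib.MultMaxTorus14.Basic
import Groth.Agent.Lib.GrpLim14.Normal
import Groth.Agent.Lib.AffMono14.Basic
import Groth.Agent.Lib.Flag27.Geom
import Groth.Agent.Lib.Flag27.GeomPt
import Groth.Agent.Lib.Flag27.CentBC
import Groth.Agent.S5255
import Groth.Agent.S8061

/-!
# Normal subgroups of reductive and semisimple groups
-/

set_option autoImplicit false
set_option linter.all false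
set_option backward.isDefEq.respectTransparency false

universe u

open CategoryTheory CategoryTheory.Limits MonoidalCategory CartesianMonoidalCategory MonObj GrpObj
open AlgebraicGeometry TopologicalSpace

noncomputable section

namespace GrothLib.UnipFix19

/-- Tori are of multiplicative type. -/
theorem isMultTypeFT_of_isTorus {S : Scheme.{u}} {T : Over S} [GrpObj T] (hT : Red.IsTorus T) :
    SGA3x.IsMultTypeFT T := by
  obtain ⟨S', f, hfl, hfs, hcov, hloc⟩ := hT
  refine ⟨S', f, hfl, hfs, hcov, fun s => ?_⟩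
  obtain ⟨U, hU, r, hr⟩ := hloc s
  exact ⟨U, hU, Fin r → ℤ, inferInstance, Module.Finite.iff_addGroup_fg.1 inferInstance, hr⟩

/-- Normality is stable under base change. -/
theorem isNormalHom_map {S S' : Scheme.{u}} (f : S' ⟶ S) {H G : Over S} [GrpObj H] [GrpObj G] {v : H ⟶ G}
    (h : AlgGrp.IsNormalHom v) : AlgGrp.IsNormalHom ((Over.pullback f).map v) := by
  obtain ⟨m, hm⟩ := (GrothLib.GrpLim14.isNormalHom_iff v).1 h
  exact (GrothLib.GrpLim14.isNormalHom_map_iff f v).2 ⟨(Over.pullback f).map m, by rw [← Functor.map_comp, hm]⟩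

/-- Tori descend along field extensions. -/
theorem isTorus_of_bc_field {k K : Type u} [Field k] [Field K] (f : Spec (CommRingCat.of K) ⟶ Spec (CommRingCat.of k))
    {T : Over (Spec (CommRingCat.of k))} [GrpObj T] (hT : Red.IsTorus (Red.bc f T)) : Red.IsTorus T := by
  obtain ⟨S'', π, hfl, hsurj, -, hloc⟩ := hT
  haveI := hfl; haveI := hsurj
  haveI := GrothLib.Flag27.surjective_to_field f
  haveI : Surjective (π ≫ f) := inferInstance
  refine ⟨S'', π ≫ f, GrothLib.Flag27.flat_to_field _, inferInstance, fun V hV => ?_, fun s => ?_⟩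
  · haveI : Subsingleton ↥(Spec (CommRingCat.of k)) := inferInstanceAs (Subsingleton (PrimeSpectrum k))
    by_cases hne : (V : Set ↥(Spec (CommRingCat.of k))).Nonempty
    · obtain ⟨v, hv⟩ := hne
      obtain ⟨x, hx⟩ := (π ≫ f).surjective v
      obtain ⟨W, hW, hxW, -⟩ := exists_isAffineOpen_mem_and_subset (X := S'') (x := x) (U := ⊤) trivial
      refine ⟨W, hW.isCompact, Set.Subset.antisymm (fun y _ => ?_) fun y _ => ⟨x, hxW, Subsingleton.elim _ _⟩⟩
      rw [Subsingleton.elim y v]; exact hv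
    · exact ⟨⊥, by simp, by simp [Set.not_nonempty_iff_eq_empty.1 hne]⟩
  · obtain ⟨U, hU, r, ⟨e⟩⟩ := hloc s
    exact ⟨U, hU, r, ⟨(GrothLib.DiagGrp.bcGrpComp T f (U.ι ≫ π) (U.ι ≫ π ≫ f) (by rw [Category.assoc])) ≪≫ e⟩⟩

variable {k : Type u} [Field k] [IsAlgClosed k]

/-- A smooth closed normal connected subgroup of a reductive group is reductive. -/
theorem isReductiveOver_normal {G N : Over (Spec (CommRingCat.of k))} [GrpObj G] [GrpObj N]
    (hG : Red.IsReductiveOver k G) (j : N ⟶ G) [IsMonHom j] [IsClosedImmersion j.left] [Smooth N.hom]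
    [hc : ConnectedSpace N.left] (hN : AlgGrp.IsNormalHom j) : Red.IsReductiveOver k N := by
  obtain ⟨ha, hs, -, hu⟩ := hG
  haveI := ha; haveI := hs
  exact ⟨isAffine_of_isAffineHom j.left, ‹_›, hc, trivial_of_normal G N j hN hu⟩

/-- A smooth connected commutative normal subgroup of a reductive group is a torus. -/
theorem isTorus_of_comm_normal {G H : Over (Spec (CommRingCat.of k))} [GrpObj G] [GrpObj H] [IsCommMonObj H]
    (hG : Red.IsReductiveOver k G) (i : H ⟶ G) [IsMonHom i] [IsClosedImmersion i.left] [Smooth H.hom]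
    [ConnectedSpace H.left] (hN : AlgGrp.IsNormalHom i) : Red.IsTorus H := by
  obtain ⟨ha, hs, -, hu⟩ := hG
  haveI := ha; haveI := hs
  haveI : IsAffine H.left := isAffine_of_isAffineHom i.left
  refine Groth.Agent.S8061.result k H fun U _ iU _ hci hsm hcn hU => ?_
  refine trivial_of_normal G H i hN hu U iU hci hsm hcn (fun T g n => ⟨n, ?_⟩) hU
  haveI : IsMulCommutative (T ⟶ H) := (isCommMonObj_iff_isMulCommutative H).1 ‹IsCommMonObj H› T
  rw [mul_comm' g (n ≫ iU), mul_inv_cancel_right]

/-- A normal torus of a connected group contained in a centre: the largest normal torus. -/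
theorem exists_largest_normalTorus (N : Over (Spec (CommRingCat.of k))) [GrpObj N] [IsAffine N.left]
    [Smooth N.hom] [ConnectedSpace N.left] :
    ∃ (M : Over (Spec (CommRingCat.of k))) (_ : GrpObj M) (m : M ⟶ N), IsMonHom m ∧ IsClosedImmersion m.left ∧
      Red.IsTorus M ∧ AlgGrp.IsNormalHom m ∧
      ∀ (T : Over (Spec (CommRingCat.of k))) [GrpObj T] (i : T ⟶ N) [IsMonHom i] [Mono i],
        Red.IsTorus T → AlgGrp.IsNormalHom i → ∃ f : T ⟶ M, f ≫ m = i := by
  obtain ⟨Z, gZ, z, hm, hcl, hmono, hMT, hc, hu⟩ := GrothLib.CentMT14.exists_reductiveCentre N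
  haveI := hm; haveI := hcl; haveI := hmono
  obtain ⟨M, gM, incl, hmax, hmaxu⟩ := GrothLib.MultMaxTorus14.exists_maximalTorus hMT
  haveI := hmax.1; haveI := hmax.2.1
  haveI : Smooth M.hom := (GrothLib.IsogProps19.torus_props M hmax.2.2.1).1
  haveI : QuasiCompact M.hom := (GrothLib.IsogProps19.torus_props M hmax.2.2.1).2.1
  haveI : IsAffine Z.left := isAffine_of_isAffineHom z.left
  haveI : IsAffineHom Z.hom := isAffineHom_of_isAffine _
  haveI : LocallyOfFiniteType Z.hom := by rw [← Over.w z]; infer_instance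
  haveI : QuasiCompact (incl.left ≫ Z.hom) := by rw [Over.w]; infer_instance
  haveI : QuasiCompact incl.left := QuasiCompact.of_comp incl.left Z.hom
  haveI : IsClosedImmersion incl.left := GrothLib.AffMono14.isClosedImmersion_of_mono incl
  haveI : IsClosedImmersion (incl ≫ z).left := by rw [Over.comp_left]; infer_instance
  have hfiber : ∀ s : ↥(Spec (CommRingCat.of k)),
      ConnectedSpace ↥(pullback N.hom ((Spec (CommRingCat.of k)).fromSpecResidueField s)) := fun s =>
    GrothLib.Flag27.connectedSpace_bc (K := (Spec (CommRingCat.of k)).residueField s)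
      ((Spec (CommRingCat.of k)).fromSpecResidueField s) N
  have univ : ∀ (H : Over (Spec (CommRingCat.of k))) [GrpObj H] (j : H ⟶ N) [IsMonHom j],
      SGA3x.IsMultTypeFT H → (∀ (X : Over (Spec (CommRingCat.of k))) (x : X ⟶ H) (g : X ⟶ N),
        (x ≫ j) * g = g * (x ≫ j)) → ∃ w : H ⟶ Z, w ≫ z = j := by
    intro H _ j _ hH hcj
    let f := 𝟙 (Spec (CommRingCat.of k))
    let l : ∀ T : Over (Spec (CommRingCat.of k)), (Over.map f).obj T ⟶ T := fun T =>
      Over.homMk (𝟙 _) ((Category.id_comp _).trans (Category.comp_id _).symm)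
    let v : H ⟶ Red.bc f N := GrothLib.DiagGrp.bcPointMulEquiv f N H (l H ≫ j)
    have hv : ∀ (T : Over (Spec (CommRingCat.of k))) (x : T ⟶ H),
        x ≫ v = GrothLib.DiagGrp.bcPointMulEquiv f N T (l T ≫ x ≫ j) := fun T x => by
      refine (GrothLib.DiagGrp.bcPoint_comp f x _).symm.trans (congrArg _ ?_)
      rw [← Category.assoc, ← Category.assoc]
      congr 1
    haveI : IsMonHom v := GrothLib.DiagGrp.isMonHom_of_points v fun T x y => by
      rw [hv, hv, hv, MonObj.mul_comp, MonObj.comp_mul, map_mul]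
    obtain ⟨w, hw⟩ := hu _ f H v hH fun T x g => by
      obtain ⟨g, rfl⟩ := (GrothLib.DiagGrp.bcPointMulEquiv f N T).surjective g
      rw [hv, ← map_mul, ← map_mul, ← Category.assoc]
      congr 1
      exact hcj _ _ g
    let l' : H ⟶ (Over.map f).obj H := Over.homMk (𝟙 _) ((Category.id_comp _).trans (Category.comp_id _))
    refine ⟨l' ≫ (GrothLib.DiagGrp.bcPointMulEquiv f Z H).symm w, ?_⟩
    have h : (GrothLib.DiagGrp.bcPointMulEquiv f Z H).symm w ≫ z = l H ≫ j := by
      apply (GrothLib.DiagGrp.bcPointMulEquiv f N H).injective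
      refine (GrothLib.DiagGrp.bcPoint_comp_right f _ z).trans ?_
      change GrothLib.DiagGrp.bcPointMulEquiv f Z H _ ≫ _ = v
      rw [MulEquiv.apply_symm_apply]
      exact hw
    rw [Category.assoc, h, ← Category.assoc]
    exact (congrArg (· ≫ j) (Over.OverMorphism.ext (Category.id_comp _) : l' ≫ l H = 𝟙 H)).trans (Category.id_comp _)
  exact ⟨M, gM, incl ≫ z, inferInstance, inferInstance, hmax.2.2.1,
    fun T g n => ⟨n, by
      rw [← Category.assoc n, ← hc T (n ≫ incl) g, mul_inv_cancel_right]⟩,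
    fun T _ i _ _ hT hn => by
      obtain ⟨v, hv⟩ := univ T i (isMultTypeFT_of_isTorus hT) fun X x g =>
        (Groth.Agent.S5255.result N T hfiber i (isMultTypeFT_of_isTorus hT) hn X g x).symm
      haveI : IsMonHom (v ≫ z) := by rw [hv]; infer_instance
      haveI : IsMonHom v := GrothLib.Flag27.isMonHom_of_comp v z
      haveI : Mono (v ≫ z) := by rw [hv]; infer_instance
      haveI : Mono v := mono_of_mono v z
      obtain ⟨y, hy⟩ := hmaxu T v hT
      exact ⟨y, by rw [← Category.assoc, hy, hv]⟩⟩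

/-- A smooth connected normal subgroup of a semisimple group is semisimple. -/
theorem isSemisimpleOver_normal {G N : Over (Spec (CommRingCat.of k))} [GrpObj G] [GrpObj N]
    (hG : Red.IsSemisimpleOver k G) (j : N ⟶ G) [IsMonHom j] [IsClosedImmersion j.left] [Smooth N.hom]
    [ConnectedSpace N.left] (hN : AlgGrp.IsNormalHom j) : Red.IsSemisimpleOver k N := by
  refine ⟨isReductiveOver_normal hG.1 j hN, fun T _ i _ hi hn hT => ?_⟩
  obtain ⟨⟨ha, hs, -, -⟩, ht⟩ := hG
  haveI := ha; haveI := hs; haveI := hi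
  haveI : IsAffine N.left := isAffine_of_isAffineHom j.left
  haveI : Mono i := Over.mono_of_mono_left i
  haveI : Mono j := Over.mono_of_mono_left j
  obtain ⟨M, gM, m, hm, hmc, hMt, hMn, hMu⟩ := exists_largest_normalTorus N
  haveI := hm; haveI := hmc
  obtain ⟨f, hf⟩ := hMu T i hT hn
  haveI : IsClosedImmersion (m ≫ j).left := by rw [Over.comp_left]; infer_instance
  haveI : Smooth M.hom := (GrothLib.IsogProps19.torus_props M hMt).1
  refine isTrivialGrp_of_factor f m i hf (ht M (m ≫ j) inferInstance (isNormalHom_of_pts _ fun g w => ?_) hMt)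
  obtain ⟨c, hc1, hc2, hc⟩ := exists_conj_iso j hN g
  haveI : Mono m := Over.mono_of_mono_left m
  obtain ⟨f', hf'⟩ := hMu M (m ≫ c.hom) hMt fun T' n x => by
    obtain ⟨x', hx'⟩ := hMn T' (n ≫ c.inv) x
    refine ⟨x', ?_⟩
    have := congrArg (· ≫ c.hom) hx'
    simpa [MonObj.mul_comp, GrpObj.inv_comp] using this
  refine ⟨w ≫ f', ?_⟩
  rw [Category.assoc, reassoc_of% hf', hc]
  simp only [MonObj.comp_mul, GrpObj.comp_inv, ← Category.assoc]
  rw [toUnit_unique ((w ≫ m) ≫ toUnit N) (𝟙 _), Category.id_comp]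

end GrothLib.UnipFix19
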