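import Groth.Agent.Lib.UnipFix19.Basic
import Groth.Agent.Lib.Flag27.Conj
import Groth.Agent.Lib.UnipSplit24.Sections
import Groth.Agent.Lib.UnipSplit14.Main
import Groth.Agent.Lib.GModComod14.Basic
import Groth.Agent.S3266

/-!
# Connected groups without subtori fix vectors in all representations
-/

set_option autoImplicit false
set_option linter.all false
set_option backward.isDefEq.respectTransparency false

universe u

open CategoryTheory CategoryTheory.Limits MonoidalCategory CartesianMonoidalCategory MonObj GrpObj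
open AlgebraicGeometry VecGrp
open GrothLib.Repr GrothLib.Induce27 GrothLib.Flag27
open scoped TensorProduct

noncomputable section

namespace GrothLib.UnipFix19

open Groth.Agent.S11191 GrothLib.MultHopf14

section Hopf

variable {k : Type u} [Field k] [IsAlgClosed k] {A : Type u} [CommRing A] [HopfAlgebra k A]
  [Algebra.FiniteType k A] [IsDomain A]

/-- A solvable connected group with a non-trivial character has a split torus quotient algebra. -/
theorem exists_surjective_of_groupLike (hs : HopfRep.IsTrigonalizable k A) {g : A} (hg : IsGroupLikeElem k g)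
    (hg1 : g ≠ 1) : ∃ φ : A →ₐc[k] MonoidAlgebra k (Multiplicative ℤ), Function.Surjective φ := by
  let C := MonoidAlgebra k (GroupLike k A)
  let ψ : C →ₐc[k] A := MonoidAlgebra.liftGroupLikeBialgHom (R := k) (A := A)
  have hψ : Function.Injective ψ := GrothLib.CharFG28.liftGroupLike_injective k A
  haveI : IsDomain C := Function.Injective.isDomain (f := (ψ : C →+* A)) hψ
  let J := GrothLib.Hopf.kerIdeal k ψ
  haveI : J.IsHopfIdeal k := GrothLib.Hopf.FiniteRank.isHopfIdeal_kerIdeal ψ
  have hU : HopfRep.IsUnipotent k (A ⧸ J) := GrothLib.TrigStruct.isUnipotent_quotient hs J fun x hx => by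
    have h : ψ (MonoidAlgebra.single (⟨x, hx⟩ : GroupLike k A) 1 - 1) = x - 1 := by
      show MonoidAlgebra.lift k A (GroupLike k A) _ (MonoidAlgebra.single (⟨x, hx⟩ : GroupLike k A) 1 - 1) = x - 1
      rw [map_sub, map_one, MonoidAlgebra.lift_single, one_smul]
      rfl
    rw [← h]
    refine Ideal.mem_map_of_mem _ ?_
    rw [RingHom.mem_ker, map_sub, map_one, sub_eq_zero]
    exact (MonoidAlgebra.isGroupLikeElem_single_one _).counit_eq_one
  have hD : SGA3b.IsDiag k C := ⟨GroupLike k A, inferInstance, ⟨BialgEquiv.refl k _⟩⟩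
  obtain ⟨r, hr⟩ := GrothLib.UnipSplit14.exists_retraction hD ψ hψ J rfl hU
  have hrs : Function.Surjective r := fun c => ⟨ψ c, congrArg (fun f => f c) hr⟩
  haveI : Algebra.FiniteType k C :=
    Algebra.FiniteType.of_surjective (r : A →ₐ[k] C) hrs
  have hc : IsGroupLikeElem k (MonoidAlgebra.single (⟨g, hg⟩ : GroupLike k A) (1 : k) : C) :=
    MonoidAlgebra.isGroupLikeElem_single_one _
  have hc1 : (MonoidAlgebra.single (⟨g, hg⟩ : GroupLike k A) (1 : k) : C) ≠ 1 := fun h => hg1 (by
    have e : MonoidAlgebra.lift k A (GroupLike k A)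
        { toFun := fun g => g.1, map_one' := rfl, map_mul' := fun _ _ => rfl }
        (MonoidAlgebra.single (⟨g, hg⟩ : GroupLike k A) 1) = ψ 1 := congrArg ψ h
    rw [MonoidAlgebra.lift_single, one_smul, map_one] at e
    exact e)
  obtain ⟨φ, hφ⟩ := GrothLib.UnipSplit24.exists_surjective_laurent hc hc1
  exact ⟨φ.comp r, hφ.comp hrs⟩

end Hopf

variable {k : Type u} [Field k] [IsAlgClosed k]
variable {G : Over (Spec (CommRingCat.of k))} [GrpObj G] [IsAffine G.left] [Smooth G.hom]
  [ConnectedSpace G.left]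

/-- Multiplicative functions on a solvable connected group without subtori are constant. -/
theorem char_eq_one (hs : IsSolvable (pt k k ⟶ G)) (hU : Red.HasNoSubtorus k G) (h : Fn G)
    (h1 : valAt (1 : pt k k ⟶ G) h = 1)
    (hm : ∀ g g' : pt k k ⟶ G, valAt (g * g') h = valAt g h * valAt g' h) : ∀ g : pt k k ⟶ G, valAt g h = 1 := by
  haveI := IsogGaGm24.isIntegral_of_smooth G
  obtain ⟨A, _, _, ⟨e⟩⟩ := exists_hopf G (isAffineHom_of_isAffine _)
  haveI := TorusPrim24.isDomain_of_iso e
  let iA : specGrp (R := k) A ≅ G := (Grp.forget _).mapIso e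
  haveI : IsIso iA.hom.left := inferInstanceAs (IsIso ((Over.forget _).map iA.hom))
  haveI : IsMonHom iA.hom := e.hom.hom.isMonHom_hom
  haveI : Algebra.FiniteType k A := by
    have : LocallyOfFiniteType (specGrp (R := k) A).hom := by rw [← Over.w iA.hom]; infer_instance
    exact RingHom.finiteType_algebraMap.1 ((HasRingHomProperty.Spec_iff (P := @LocallyOfFiniteType)).1 this)
  let f : GrothLib.GModComod14.G k A ⟶ G := iA.hom
  haveI : IsMonHom f := inferInstanceAs (IsMonHom iA.hom)
  let a : A := valAt (iA.hom : pt k A ⟶ G) h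
  have hev : ∀ {R : Type u} [CommRing R] [Algebra k R] (φ : A →ₐ[k] R),
      valAt (GrothLib.GModComod14.point φ ≫ f) h = φ a := fun φ => by
    rw [GrothLib.GModComod14.point_eq_ptMap]
    exact valAt_ptMap_comp φ (iA.hom : pt k A ⟶ G) h
  have hpt : ∀ g : pt k k ⟶ G, ∃ φ : A →ₐ[k] k, GrothLib.GModComod14.point φ ≫ f = g := by
    intro g
    refine ⟨GrothLib.GModComod14.alg (g ≫ iA.inv), ?_⟩
    rw [GrothLib.GModComod14.point_alg]
    show (g ≫ iA.inv) ≫ iA.hom = g
    rw [Category.assoc, iA.inv_hom_id, Category.comp_id]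
  -- the function is multiplicative on the group
  have hmul : fnMap (μ[G]) h = fnMap (fst G G) h * fnMap (snd G G) h := by
    haveI : Smooth (G ⊗ G).hom := by
      show Smooth (pullback.fst G.hom G.hom ≫ G.hom)
      infer_instance
    haveI : IsAffine (G ⊗ G).left := inferInstanceAs (IsAffine (pullback G.hom G.hom))
    refine ext_valAt fun x => ?_
    rw [map_mul, ← valAt_comp, ← valAt_comp, ← valAt_comp, ← hm]
    congr 2
    conv_lhs => rw [show μ[G] = fst G G * snd G G by rw [Hom.mul_def, lift_fst_snd, Category.id_comp]]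
    rw [MonObj.comp_mul]
  have hgl : IsGroupLikeElem k a := by
    constructor
    · have hε : (1 : WithConv (A →ₐ[k] k)).ofConv = Bialgebra.counitAlgHom k A :=
        AlgHom.ext fun x => by simp [AlgHom.convOne_def]
      show Bialgebra.counitAlgHom k A a = 1
      rw [← hε, ← hev, GrothLib.GModComod14.point_one, MonObj.one_comp, h1]
    · let iL : A →ₐ[k] A ⊗[k] A := Algebra.TensorProduct.includeLeft
      let iR : A →ₐ[k] A ⊗[k] A := Algebra.TensorProduct.includeRight
      have hc : (WithConv.toConv iL * WithConv.toConv iR).ofConv = Bialgebra.comulAlgHom k A := by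
        refine AlgHom.ext fun x => ?_
        rw [AlgHom.convMul_apply]
        show Algebra.TensorProduct.lift iL iR (fun _ _ => Commute.all _ _) (Coalgebra.comul (R := k) x) =
          Coalgebra.comul (R := k) x
        induction Coalgebra.comul (R := k) x using TensorProduct.induction_on with
        | zero => simp
        | tmul p q => simp [iL, iR]
        | add p q hp hq => rw [map_add, hp, hq]
      show Bialgebra.comulAlgHom k A a = a ⊗ₜ[k] a
      rw [← hc, ← hev, ← GrothLib.GModComod14.point_mul, MonObj.mul_comp,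
        show ((GrothLib.GModComod14.point iL ≫ f) * (GrothLib.GModComod14.point iR ≫ f) : pt k (A ⊗[k] A) ⟶ G) =
        lift (GrothLib.GModComod14.point iL ≫ f) (GrothLib.GModComod14.point iR ≫ f) ≫ μ[G] from Hom.mul_def _ _,
        valAt_comp, hmul, map_mul, ← valAt_comp, ← valAt_comp, lift_fst, lift_snd, hev, hev]
      simp [iL, iR]
  by_cases ha : a = 1
  · intro g
    obtain ⟨φ, rfl⟩ := hpt g
    rw [hev]
    show φ a = 1
    rw [ha, map_one]
  exfalso
  haveI : Group.IsSolvable (WithConv (A →ₐ[k] k)) := by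
    haveI : Group.IsSolvable (pt k k ⟶ G) := hs
    let E : WithConv (A →ₐ[k] k) →* (pt k k ⟶ G) :=
      { toFun := fun w => GrothLib.GModComod14.point w.ofConv ≫ f
        map_one' := by rw [GrothLib.GModComod14.point_one]; exact MonObj.one_comp _
        map_mul' := fun v w => by
          rw [← MonObj.mul_comp]
          congr 1
          rw [GrothLib.GModComod14.point_mul] }
    refine solvable_of_solvable_injective (f := E) fun v w hvw => ?_
    have h' : GrothLib.GModComod14.point v.ofConv = GrothLib.GModComod14.point w.ofConv :=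
      (cancel_mono iA.hom).1 hvw
    have := congrArg GrothLib.GModComod14.alg h'
    rw [GrothLib.GModComod14.alg_point, GrothLib.GModComod14.alg_point] at this
    exact WithConv.ofConv_injective this
  have hT : HopfRep.IsTrigonalizable k A := Groth.Agent.S3266.result k A fun x hx =>
    IsIdempotentElem.iff_eq_zero_or_one.1 hx
  obtain ⟨φ, hφ⟩ := exists_surjective_of_groupLike hT hgl ha
  obtain ⟨eL⟩ := GrothLib.SplitTors24.iso_Gm (k := k)
  let C := MonoidAlgebra k (Multiplicative ℤ)
  let hg : Grp.mk (specGrp (R := k) C) ⟶ Grp.mk (specGrp (R := k) A) :=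
    (hopfSpec (CommRingCat.of k)).map (X := Opposite.op (CommHopfAlgCat.of k C))
      (Y := Opposite.op (CommHopfAlgCat.of k A)) (CommHopfAlgCat.ofHom φ).op
  let jg : Grp.mk (Red.Gm (Spec (CommRingCat.of k))) ⟶ Grp.mk G := eL.inv ≫ hg ≫ e.hom
  haveI : IsMonHom jg.hom.hom := jg.hom.isMonHom_hom
  haveI : IsClosedImmersion hg.hom.hom.left := by
    show IsClosedImmersion (Spec.map (CommRingCat.ofHom (φ : A →+* C)))
    exact IsClosedImmersion.spec_of_surjective _ hφ
  haveI : IsIso eL.inv.hom.hom.left :=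
    inferInstanceAs (IsIso ((Grp.forget _ ⋙ Over.forget _).map eL.inv))
  haveI : IsClosedImmersion jg.hom.hom.left :=
    inferInstanceAs (IsClosedImmersion (eL.inv.hom.hom.left ≫ hg.hom.hom.left ≫ iA.hom.left))
  haveI : Mono jg.hom.hom := (Over.forget _).mono_of_mono_map (inferInstanceAs (Mono jg.hom.hom.left))
  haveI hiso : IsIso (Red.Gm (Spec (CommRingCat.of k))).hom :=
    hU (Red.Gm (Spec (CommRingCat.of k))) jg.hom.hom (GrothLib.RankCell14.isTorus_Gm _)
  refine GrothLib.UnipSplit24.not_iso_Gm_quotient.not_subsingleton_spec_laurent (k := k) ⟨fun P P' => ?_⟩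
  have hinj : Function.Injective (eL.hom.hom.hom.left ≫ (Red.Gm (Spec (CommRingCat.of k))).hom) := by
    haveI : IsIso eL.hom.hom.hom.left :=
      inferInstanceAs (IsIso ((Grp.forget _ ⋙ Over.forget _).map eL.hom))
    exact (eL.hom.hom.hom.left ≫ (Red.Gm (Spec (CommRingCat.of k))).hom).homeomorph.injective
  exact hinj (Subsingleton.elim (α := PrimeSpectrum k) _ _)

/-- Solvable connected groups without subtori fix vectors in all representations. -/
theorem fix_of_solvable (hs : IsSolvable (pt k k ⟶ G)) (hU : Red.HasNoSubtorus k G) : Fix G := by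
  intro n M hM
  obtain ⟨a, ha⟩ := exists_action hM
  haveI : IsProper (PO k n).hom := GrothLib.Chow.isProper_toSpec n k
  haveI : Nonempty (PO k n).left := ⟨(line (Pi.single 0 1) (by simp)).left.base (IsLocalRing.closedPoint k)⟩
  haveI : Group.IsSolvable (𝟙_ (Over (Spec (CommRingCat.of k))) ⟶ G) := (isSolvable_pt_iff G).1 hs
  obtain ⟨x, hx⟩ := GrothLib.BorelFix27.exists_fixedPt a
  obtain ⟨w, hw, hxw⟩ := exists_line (ptOne.hom ≫ x)
  have hlin : ∀ g : pt k k ⟶ G, ∃ r : k, (evM M g).mulVec w = r • w := by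
    intro g
    have e : lift g (ptOne.hom ≫ x) ≫ a.act = ptOne.hom ≫ x := by
      have := hx _ g
      rwa [toUnit_unique (toUnit (pt k k)) ptOne.hom] at this
    rw [hxw, ha] at e
    obtain ⟨r, hr⟩ := (line_eq_iff _ _).1 e.symm
    exact ⟨r, hr⟩
  obtain ⟨p, hp⟩ : ∃ p, w p ≠ 0 := by
    by_contra hall
    push Not at hall
    exact hw (funext hall)
  -- the character
  let h : Fn G := ∑ l, M p l * algebraMap k (Fn G) ((w p)⁻¹ * w l)
  have hval : ∀ g : pt k k ⟶ G, (evM M g).mulVec w = valAt g h • w := by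
    intro g
    obtain ⟨r, hr⟩ := hlin g
    have e : valAt g h = r := by
      have e' := congrFun hr p
      simp only [Matrix.mulVec, dotProduct, Pi.smul_apply, smul_eq_mul, evM, Matrix.map_apply] at e'
      simp only [h, map_sum, map_mul, AlgHom.commutes, Algebra.algebraMap_self, RingHom.id_apply]
      refine mul_right_cancel₀ hp ?_
      rw [Finset.sum_mul, ← e']
      exact Finset.sum_congr rfl fun l _ => by field_simp
    rw [e, hr]
  have hsm : ∀ r r' : k, r • w = r' • w → r = r' := fun r r' e =>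
    mul_right_cancel₀ hp (congrFun e p)
  have h1 : valAt (1 : pt k k ⟶ G) h = 1 := hsm _ _ (by rw [← hval, hM.one, Matrix.one_mulVec, one_smul])
  have hm : ∀ g g' : pt k k ⟶ G, valAt (g * g') h = valAt g h * valAt g' h := fun g g' => hsm _ _ (by
    rw [← hval, hM.mul, ← Matrix.mulVec_mulVec, hval g', Matrix.mulVec_smul, hval g, smul_smul, mul_comm])
  refine ⟨w, hw, fun g => ?_⟩
  rw [hval, char_eq_one hs hU h h1 hm g, one_smul]

set_option maxHeartbeats 800000 in
/-- Connected groups without subtori fix vectors in all representations. -/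
theorem fix_of_hasNoSubtorus (hU : Red.HasNoSubtorus k G) : Fix G := by
  obtain ⟨B, _, i, hB, -⟩ := exists_borel (G := G)
  obtain ⟨hi, hic, hBsm, hBc, hBs, -⟩ := id hB
  haveI := hi; haveI := hic; haveI := hBsm; haveI := hBc
  haveI : IsAffine B.left := isAffine_of_isAffineHom i.left
  haveI : Mono i := Over.mono_of_mono_left i
  have hBU : Red.HasNoSubtorus k B := fun T _ j _ _ hT => hU T (j ≫ i) hT
  have hBf : Fix B := fix_of_solvable ((isSolvable_pt_iff B).2 (isSolvable_points hBs)) hBU
  intro n M hM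
  obtain ⟨w, hw, hfix⟩ := hBf n _ (isRep_pull hM i)
  refine ⟨w, hw, ?_⟩
  obtain ⟨X, a, o, hX, hXp⟩ := isProper_quotient_good (uc_of_borel hB)
  obtain ⟨hXl, hfl, hsurj, hpb⟩ := hX
  haveI := hfl; haveI := hsurj; haveI := hXl
  haveI := GrothLib.Induce27.lfp_orbit (a.orbitMap o)
  haveI : IsReduced G.left := GrothLib.RedSmooth.isReduced_of_smooth G.hom
  haveI := GrothLib.Rigidity.irreducibleSpace_of_connected G
  haveI : IsReduced X.left := GrothLib.FlatFactor.isReduced_of_flat_surjective (a.orbitMap o).left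
  haveI : IrreducibleSpace X.left := by
    rw [irreducibleSpace_def, Set.top_eq_univ, ← (a.orbitMap o).left.surjective.range_eq, ← Set.image_univ]
    exact (IrreducibleSpace.isIrreducible_univ G.left).image _ (a.orbitMap o).left.continuous.continuousOn
  haveI : IsIntegral X.left := isIntegral_of_irreducibleSpace_of_isReduced _
  suffices key : ∀ (p : Fin (n + 1)) (g : pt k k ⟶ G),
      (evM M g).mulVec w p = (evM M 1).mulVec w p by
    intro g
    funext p
    rw [key, hM.one, Matrix.one_mulVec]
  intro p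
  let F : Fn G := ∑ l, M p l * algebraMap k (Fn G) (w l)
  have hF : ∀ g : pt k k ⟶ G, valAt g F = (evM M g).mulVec w p := fun g => by
    simp [F, Matrix.mulVec, dotProduct, evM, map_sum, map_mul]
  obtain ⟨φ, hφ⟩ : ∃ φ : G ⟶ pt k (Polynomial k), ∀ g g' : pt k k ⟶ G,
      g ≫ φ = g' ≫ φ ↔ valAt g F = valAt g' F := by
    refine ⟨(affIso G).hom ≫ ptMap (Polynomial.aeval F), ?_⟩
    intro g g'
    have e : ∀ g : pt k k ⟶ G, g ≫ (affIso G).hom ≫ ptMap (Polynomial.aeval F) = ptMap ((valAt g).comp (Polynomial.aeval F)) := fun g => by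
      conv_lhs => rw [eq_of_affine g]
      show (_ ≫ (affIso G).inv) ≫ (affIso G).hom ≫ _ = _
      rw [Category.assoc, Iso.inv_hom_id_assoc]
      refine Over.OverMorphism.ext ?_
      show Spec.map _ ≫ Spec.map _ = Spec.map _
      rw [LieS.specMap_comp]
      rfl
    rw [e, e]
    constructor
    · intro h
      have h' := congrArg valAt h
      have h'' : ∀ (φ : Polynomial k →ₐ[k] k), valAt (ptMap φ) (fnPt k (Polynomial k) Polynomial.X) = φ Polynomial.X :=
        fun φ => valAt_ptMap φ _
      have := congrArg (fun f => f (fnPt k (Polynomial k) Polynomial.X)) h'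
      simpa [h''] using this
    · intro h
      congr 1
      exact Polynomial.algHom_ext (by simpa using h)
  haveI : Smooth (G ⊗ B).hom := by
    show Smooth (pullback.fst G.hom B.hom ≫ G.hom)
    infer_instance
  haveI : IsReduced (G ⊗ B).left := GrothLib.RedSmooth.isReduced_of_smooth (G ⊗ B).hom
  haveI : IsSeparated (pt k (Polynomial k)).hom := inferInstanceAs (IsSeparated (Spec.map _))
  have hinv : (fst G B) ≫ φ = ((G ◁ i) ≫ μ[G]) ≫ φ := by
    refine hom_ext_pt fun q => ?_
    rw [← Category.assoc, ← Category.assoc]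
    refine (hφ (q ≫ fst G B) (q ≫ (G ◁ i) ≫ μ[G])).2 ?_
    have e : q ≫ (G ◁ i) ≫ μ[G] = (q ≫ fst G B) * ((q ≫ snd G B) ≫ i) := by
      rw [Hom.mul_def, ← Category.assoc q]
      congr 1
      ext1 <;> simp
    have hw' : (evM M ((q ≫ snd G B) ≫ i)).mulVec w = w := by
      rw [← evM_pull]
      exact hfix _
    rw [e, hF, hF, hM.mul, ← Matrix.mulVec_mulVec, hw']
  obtain ⟨d, hd⟩ := GrothLib.DiagGrp.exists_desc (a.orbitMap o) φ fun T v v' e => by
    obtain ⟨l, hl1, hl2⟩ : ∃ l : T ⟶ G ⊗ B, l ≫ fst G B = v ∧ l ≫ (G ◁ i) ≫ μ[G] = v' :=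
      ⟨hpb.lift v v' e, hpb.lift_fst _ _ _, hpb.lift_snd _ _ _⟩
    rw [← hl1, ← hl2, Category.assoc, hinv]
    simp only [Category.assoc]
  haveI : IsAffine (pt k (Polynomial k)).left := inferInstanceAs (IsAffine (Spec _))
  have hd0 : d = toUnit X ≫ o ≫ d :=
    Over.OverMorphism.ext (GrothLib.Rigidity.eq_comp_section_of_isAffine X.hom o.left (Over.w o) d.left)
  intro g
  rw [← hF, ← hF, ← hφ, ← hd, hd0]
  simp only [← Category.assoc]
  congr 2
  exact toUnit_unique _ _

end GrothLib.UnipFix19
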