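import Groth.Agent.Lib.UnipFix19.Reductive
import Groth.Agent.Lib.GrpLim14.Basic
import Groth.Agent.Lib.GrpSchField.Pts
import Groth.Agent.Lib.GrpSchField.ReducedProd
import Groth.Agent.Lib.AlgSp.GaloisBC

/-!
# Descent of Galois stable subgroups over perfect fields
-/

set_option autoImplicit false
set_option linter.all false
set_option backward.isDefEq.respectTransparency false

universe u

open CategoryTheory CategoryTheory.Limits MonoidalCategory CartesianMonoidalCategory MonObj GrpObj
open AlgebraicGeometry TopologicalSpace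

noncomputable section

namespace GrothLib.UnipFix19

variable {k K : Type u} [Field k] [Field K] (f : Spec (CommRingCat.of K) ⟶ Spec (CommRingCat.of k))

/-- Algebraic closures of a field are isomorphic over it. -/
theorem exists_ringEquiv {L A B : Type u} [Field L] [Field A] [Field B] [IsAlgClosed A] [IsAlgClosed B]
    (u : L →+* A) (v : L →+* B) (hu : u.IsIntegral) (hv : v.IsIntegral) :
    ∃ σ : A ≃+* B, ∀ t, σ (u t) = v t := by
  letI : Algebra L A := u.toAlgebra
  letI : Algebra L B := v.toAlgebra
  haveI : Algebra.IsIntegral L A := ⟨hu⟩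
  haveI : Algebra.IsIntegral L B := ⟨hv⟩
  haveI : IsAlgClosure L A := ⟨inferInstance, Algebra.IsIntegral.isAlgebraic⟩
  haveI : IsAlgClosure L B := ⟨inferInstance, Algebra.IsIntegral.isAlgebraic⟩
  exact ⟨IsAlgClosure.equivOfEquiv A B (RingEquiv.refl L), fun t =>
    IsAlgClosure.equivOfEquiv_algebraMap A B (RingEquiv.refl L) t⟩

/-- The subgroup `p` is carried into itself by the twists along automorphisms of `K` over `k`. -/
def TwistStable {G : Over (Spec (CommRingCat.of k))} {P : Over (Spec (CommRingCat.of K))}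
    (p : P ⟶ Red.bc f G) : Prop :=
  ∀ (σ : Spec (CommRingCat.of K) ⟶ Spec (CommRingCat.of K)) (hσ : σ ≫ f = f), IsIso σ →
    ∃ e : Red.bc σ P ⟶ P, e ≫ p = (Over.pullback σ).map p ≫ (GrothLib.GrpLim14.E hσ G).hom

variable [IsAlgClosed K]

/-- The rational points of a twist stable subgroup are permuted by Galois. -/
theorem exists_twist_pt {G : Over (Spec (CommRingCat.of k))} {P : Over (Spec (CommRingCat.of K))}
    {p : P ⟶ Red.bc f G} (hp : TwistStable f p) (σ : Spec (CommRingCat.of K) ⟶ Spec (CommRingCat.of K))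
    (hσ : σ ≫ f = f) [IsIso σ] (y : Spec (CommRingCat.of K) ⟶ P.left) (hy : y ≫ P.hom = 𝟙 _) :
    ∃ y' : Spec (CommRingCat.of K) ⟶ P.left, y' ≫ P.hom = 𝟙 _ ∧
      y' ≫ p.left ≫ pullback.fst G.hom f = σ ≫ y ≫ p.left ≫ pullback.fst G.hom f := by
  obtain ⟨e, he⟩ := hp σ hσ inferInstance
  let y'' : Spec (CommRingCat.of K) ⟶ pullback P.hom σ := pullback.lift (σ ≫ y) (𝟙 _) (by
    rw [Category.assoc, hy, Category.comp_id, Category.id_comp])
  refine ⟨y'' ≫ e.left, ?_, ?_⟩
  · rw [Category.assoc, Over.w e]
    exact pullback.lift_snd _ _ _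
  · rw [Category.assoc, ← Over.comp_left_assoc, he, Over.comp_left, Category.assoc,
      GrothLib.GrpLim14.E_hom_fst, ← reassoc_of% (GrothLib.Flag27.isPullback_map σ p).w,
      pullback.lift_fst_assoc, Category.assoc]

/-- Closed points in the fibre of an algebraic closure are conjugate. -/
theorem exists_auto (hint : (Spec.preimage f).hom.IsIntegral) {X : Scheme.{u}}
    (h : X ⟶ Spec (CommRingCat.of k)) (a b : Spec (CommRingCat.of K) ⟶ X) (ha : a ≫ h = f) (hb : b ≫ h = f)
    (e : a (IsLocalRing.closedPoint K) = b (IsLocalRing.closedPoint K)) :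
    ∃ (σ : Spec (CommRingCat.of K) ⟶ Spec (CommRingCat.of K)), σ ≫ f = f ∧ IsIso σ ∧ σ ≫ a = b := by
  obtain ⟨⟨x, ua⟩, rfl⟩ := (Scheme.SpecToEquivOfField K X).symm.surjective a
  obtain ⟨⟨x', vb⟩, rfl⟩ := (Scheme.SpecToEquivOfField K X).symm.surjective b
  simp only [Scheme.SpecToEquivOfField_symm_apply] at ha hb e ⊢
  simp only [Scheme.Hom.comp_apply, Scheme.fromSpecResidueField_apply] at e
  subst e
  have hua : Spec.preimage f = Spec.preimage (X.fromSpecResidueField x ≫ h) ≫ ua :=
    Spec.map_injective (by rw [Spec.map_comp, Spec.map_preimage, Spec.map_preimage]; exact (Category.assoc _ _ _).symm.trans ha |>.symm)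
  have hvb : Spec.preimage f = Spec.preimage (X.fromSpecResidueField x ≫ h) ≫ vb :=
    Spec.map_injective (by rw [Spec.map_comp, Spec.map_preimage, Spec.map_preimage]; exact (Category.assoc _ _ _).symm.trans hb |>.symm)
  have hintu : ∀ uu : X.residueField x ⟶ CommRingCat.of K,
      Spec.preimage f = Spec.preimage (X.fromSpecResidueField x ≫ h) ≫ uu → uu.hom.IsIntegral := fun uu huu' => by
    refine RingHom.IsIntegral.tower_top (Spec.preimage (X.fromSpecResidueField x ≫ h)).hom uu.hom ?_
    rw [← CommRingCat.hom_comp, ← huu']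
    exact hint
  have h1 : ∃ σr : K ≃+* K, ∀ t, σr (ua.hom t) = vb.hom t :=
    exists_ringEquiv ua.hom vb.hom (hintu ua hua) (hintu vb hvb)
  obtain ⟨σr, hσr⟩ := h1
  let τ : CommRingCat.of K ≅ CommRingCat.of K := σr.toCommRingCatIso
  have hτu : ua ≫ τ.hom = vb := CommRingCat.hom_ext (RingHom.ext hσr)
  refine ⟨Spec.map τ.hom, ?_, inferInstance, ?_⟩
  · conv_lhs => rw [← Spec.map_preimage f]
    rw [← Spec.map_comp, hua, Category.assoc, hτu, ← hvb, Spec.map_preimage]
  · show Spec.map τ.hom ≫ Spec.map ua ≫ _ = Spec.map vb ≫ _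
    rw [← Category.assoc, ← Spec.map_comp, hτu]

variable [PerfectField k] [IsIntegralHom f]

/-- A twist stable reduced closed subgroup over the algebraic closure of a perfect field descends. -/
theorem exists_descend {G : Over (Spec (CommRingCat.of k))} [GrpObj G] [IsAffine G.left] [Smooth G.hom]
    {P : Over (Spec (CommRingCat.of K))} [GrpObj P] [Smooth P.hom] [ConnectedSpace P.left]
    (p : P ⟶ Red.bc f G) [IsMonHom p] [IsClosedImmersion p.left] (hp : TwistStable f p)
    (hn : AlgGrp.IsNormalHom p) :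
    ∃ (N : Over (Spec (CommRingCat.of k))) (_ : GrpObj N) (n : N ⟶ G), IsMonHom n ∧ IsClosedImmersion n.left ∧
      Smooth N.hom ∧ ConnectedSpace N.left ∧ AlgGrp.IsNormalHom n ∧
      ∃ e : Red.bc f N ≅ P, e.hom ≫ p = (Over.pullback f).map n := by
  haveI : Flat f := GrothLib.Flag27.flat_to_field f
  haveI : Surjective f := GrothLib.Flag27.surjective_to_field f
  haveI : IsAffine (Red.bc f G).left := GrothLib.Flag27.isAffine_bc f G
  haveI := GrothLib.Flag27.smooth_bc f G
  haveI : Mono p := Over.mono_of_mono_left p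
  haveI : IsReduced P.left := GrothLib.RedSmooth.isReduced_of_smooth P.hom
  let pr : (Red.bc f G).left ⟶ G.left := pullback.fst G.hom f
  haveI : IsIntegralHom pr := MorphismProperty.pullback_fst (P := @IsIntegralHom) _ _ ‹_›
  let C : Set G.left := pr.base '' Set.range p.left.base
  have hC : IsClosed C := pr.isClosedMap _ p.left.isClosedEmbedding.isClosed_range
  have hint : (Spec.preimage f).hom.IsIntegral := by
    have h := (HasAffineProperty.iff_of_isAffine (P := @IsIntegralHom) (f := f)).mp ‹_›
    exact (IsIntegralHom.SpecMap_iff (φ := Spec.preimage f)).1 (by rw [Spec.map_preimage]; infer_instance)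
  have hsat : pr.base ⁻¹' C = Set.range p.left.base := by
    haveI : JacobsonSpace (Red.bc f G).left := LocallyOfFiniteType.jacobsonSpace (Red.bc f G).hom
    refine Set.Subset.antisymm ?_ fun x hx => ⟨x, hx, rfl⟩
    have hcl : ∀ x : (Red.bc f G).left, IsClosed ({x} : Set _) → pr x ∈ C → x ∈ Set.range p.left.base := by
      rintro x hx ⟨z, ⟨w, rfl⟩, hz⟩
      have hwx : IsClosed ({pr x} : Set G.left) := by
        have := pr.isClosedMap _ hx
        rwa [Set.image_singleton] at this
      haveI : JacobsonSpace P.left := LocallyOfFiniteType.jacobsonSpace P.hom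
      obtain ⟨w₁, hw₁, hw₁c⟩ := nonempty_inter_closedPoints (X := P.left)
        (Z := (p.left ≫ pr).base ⁻¹' {pr x}) ⟨w, hz⟩
        (hwx.preimage (p.left ≫ pr).continuous).isLocallyClosed
      obtain ⟨a, ha⟩ := GrothLib.GrpSchField.exists_point_of_isClosed (k := K) K (X := Red.bc f G) hx
      obtain ⟨b, hb⟩ := GrothLib.GrpSchField.exists_point_of_isClosed (k := K) K (X := P) hw₁c
      have hal : a.left ≫ pullback.snd G.hom f = 𝟙 _ := (Over.w a).trans (by simp)
      have hbl : b.left ≫ P.hom = 𝟙 _ := (Over.w b).trans (by simp)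
      have h1 : (a.left ≫ pr) ≫ G.hom = f := by
        rw [Category.assoc, pullback.condition, reassoc_of% hal]
      have h2 : (b.left ≫ p.left ≫ pr) ≫ G.hom = f := by
        rw [Category.assoc, Category.assoc, pullback.condition]
        show b.left ≫ p.left ≫ (Red.bc f G).hom ≫ f = f
        rw [Over.w_assoc p, reassoc_of% hbl]
      obtain ⟨σ, hσ, hσi, hσab⟩ := exists_auto f hint G.hom (b.left ≫ p.left ≫ pr) (a.left ≫ pr) h2 h1 (by
        show pr (p.left (b.left (IsLocalRing.closedPoint K))) = pr (a.left (IsLocalRing.closedPoint K))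
        erw [hb, ha]
        exact hw₁)
      haveI := hσi
      obtain ⟨y', hy', hy'2⟩ := exists_twist_pt f hp σ hσ b.left hbl
      refine ⟨y' (IsLocalRing.closedPoint K), ?_⟩
      have : y' ≫ p.left = a.left := by
        refine pullback.hom_ext ?_ ?_
        · rw [Category.assoc, hy'2]
          exact hσab
        · rw [Category.assoc, hal]
          show y' ≫ p.left ≫ (Red.bc f G).hom = _
          rw [Over.w p, hy']
          rfl
      rw [← ha, ← this]; rfl
    intro x hx
    have : IsClosed (pr.base ⁻¹' C) := hC.preimage pr.continuous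
    rw [← (JacobsonSpace.closure_inter_closedPoints this)] at hx
    refine closure_minimal ?_ p.left.isClosedEmbedding.isClosed_range hx
    rintro z ⟨hz, hzc⟩
    exact hcl z hzc hz
  let J := Scheme.IdealSheafData.vanishingIdeal (⟨C, hC⟩ : TopologicalSpace.Closeds G.left)
  let N : Over (Spec (CommRingCat.of k)) := Over.mk (J.subschemeι ≫ G.hom)
  let n : N ⟶ G := Over.homMk J.subschemeι rfl
  haveI : IsReduced N.left := RedSub.isReduced_subscheme_vanishingIdeal _
  haveI : IsClosedImmersion n.left := inferInstanceAs (IsClosedImmersion J.subschemeι)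
  haveI : Mono n := Over.mono_of_mono_left n
  have hnr : Set.range n.left = C := RedSub.range_subschemeι_vanishingIdeal _
  haveI : IsReduced (Red.bc f N).left := GrothLib.GrpSchField.isReduced_pullback N.hom f
  haveI : IsClosedImmersion ((Over.pullback f).map n).left := GrothLib.Flag27.property_map f n ‹IsClosedImmersion n.left›
  have hnK : Set.range ((Over.pullback f).map n).left.base = Set.range p.left.base := by
    rw [← hsat, ← hnr]
    ext z
    constructor
    · rintro ⟨r, rfl⟩
      refine ⟨pullback.fst N.hom f r, ?_⟩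
      show n.left (pullback.fst N.hom f r) = pullback.fst G.hom f (((Over.pullback f).map n).left r)
      rw [← Scheme.Hom.comp_apply, (GrothLib.Flag27.isPullback_map f n).w]
      rfl
    · rintro ⟨r, hr⟩
      obtain ⟨t, -, ht⟩ := Scheme.exists_preimage_of_isPullback (GrothLib.Flag27.isPullback_map f n) r z hr
      exact ⟨t, ht⟩
  obtain ⟨l, hl⟩ := RedSub.exists_lift ((Over.pullback f).map n).left p.left hnK.le
  obtain ⟨l', hl'⟩ := RedSub.exists_lift p.left ((Over.pullback f).map n).left hnK.ge
  let e₁ : Red.bc f N ⟶ P := Over.homMk l (by rw [← Over.w p, ← Category.assoc, hl, Over.w])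
  let e₂ : P ⟶ Red.bc f N := Over.homMk l' (by rw [← Over.w ((Over.pullback f).map n), ← Category.assoc, hl', Over.w])
  have he₁ : e₁ ≫ p = (Over.pullback f).map n := Over.OverMorphism.ext hl
  have he₂ : e₂ ≫ (Over.pullback f).map n = p := Over.OverMorphism.ext hl'
  haveI : Mono ((Over.pullback f).map n) := Over.mono_of_mono_left _
  let e : Red.bc f N ≅ P := ⟨e₁, e₂, by rw [← cancel_mono ((Over.pullback f).map n), Category.assoc, he₂, he₁, Category.id_comp],
    by rw [← cancel_mono p, Category.assoc, he₁, he₂, Category.id_comp]⟩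
  have test : ∀ {T : Over (Spec (CommRingCat.of k))} [IsReduced T.left] (z : T ⟶ G),
      (∃ z' : Red.bc f T ⟶ P, z' ≫ p = (Over.pullback f).map z) → ∃ t : T ⟶ N, t ≫ n = z := by
    intro T _ z hz
    obtain ⟨z', hz'⟩ := hz
    have hsub : Set.range z.left.base ⊆ Set.range n.left.base := by
      rintro _ ⟨t, rfl⟩
      haveI : Surjective (pullback.fst T.hom f) := MorphismProperty.pullback_fst (P := @Surjective) _ _ ‹_›
      obtain ⟨t', rfl⟩ := (pullback.fst T.hom f).surjective t
      have hn' : z.left (pullback.fst T.hom f t') ∈ C := by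
        refine ⟨((Over.pullback f).map z).left t', ⟨z'.left t', ?_⟩, ?_⟩
        · rw [← Scheme.Hom.comp_apply, ← Over.comp_left, hz']
        · show pullback.fst G.hom f (((Over.pullback f).map z).left t') = _
          rw [← Scheme.Hom.comp_apply (pullback.fst T.hom f), (GrothLib.Flag27.isPullback_map f z).w]
          rfl
      rw [← hnr] at hn'
      exact hn'
    obtain ⟨t, ht⟩ := RedSub.exists_lift z.left n.left hsub
    exact ⟨Over.homMk t (by rw [← Over.w n, ← Category.assoc, ht, Over.w z]), Over.OverMorphism.ext ht⟩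
  haveI : IsReduced (N ⊗ N).left := GrothLib.GrpSchField.isReduced_pullback N.hom N.hom
  haveI : IsReduced (G ⊗ N).left := by
    haveI : IsReduced G.left := GrothLib.RedSmooth.isReduced_of_smooth G.hom
    exact GrothLib.GrpSchField.isReduced_pullback G.hom N.hom
  haveI : IsReduced (𝟙_ (Over (Spec (CommRingCat.of k)))).left := inferInstanceAs (IsReduced (Spec (CommRingCat.of k)))
  obtain ⟨m, hm⟩ := test ((fst N N ≫ n) * (snd N N ≫ n))
    ⟨((Over.pullback f).map (fst N N) ≫ e₁) * ((Over.pullback f).map (snd N N) ≫ e₁), by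
      rw [MonObj.mul_comp, Category.assoc, Category.assoc, he₁, Functor.map_mul, Functor.map_comp, Functor.map_comp]⟩
  obtain ⟨v, hv⟩ := test n⁻¹ ⟨e₁⁻¹, by rw [GrpObj.inv_comp, he₁, Functor.map_inv']⟩
  obtain ⟨o, ho⟩ := test (1 : 𝟙_ (Over (Spec (CommRingCat.of k))) ⟶ G) ⟨1, by rw [MonObj.one_comp, Functor.map_one]⟩
  obtain ⟨grp, hmon⟩ := GrothLib.EssFree.exists_grpObj_of_mono n
    (fun T => ⟨toUnit T ≫ o, by rw [Category.assoc, ho, MonObj.comp_one]⟩)
    (fun T a b => ⟨lift a b ≫ m, by rw [Category.assoc, hm, MonObj.comp_mul, lift_fst_assoc, lift_snd_assoc]⟩)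
    (fun T a => ⟨a ≫ v, by rw [Category.assoc, hv, GrpObj.comp_inv]⟩)
  haveI := hmon
  haveI : LocallyOfFiniteType N.hom := by rw [← Over.w n]; infer_instance
  haveI : Smooth N.hom := GrothLib.GrpSchField.smooth_of_perfectField_of_isReduced N
  haveI : ConnectedSpace N.left := by
    haveI : Surjective (pullback.fst N.hom f) := MorphismProperty.pullback_fst (P := @Surjective) _ _ ‹_›
    haveI : IsIso e.inv.left := ((Over.forget _).mapIso e.symm).isIso_hom
    haveI : ConnectedSpace ↥(pullback N.hom f) := e.inv.left.surjective.connectedSpace e.inv.left.continuous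
    exact (pullback.fst N.hom f).surjective.connectedSpace (pullback.fst N.hom f).continuous
  refine ⟨N, grp, n, hmon, inferInstance, inferInstance, inferInstance, ?_, e, he₁⟩
  obtain ⟨w, hw⟩ := test (fst G N * (snd G N ≫ n) * (fst G N)⁻¹) (by
    obtain ⟨z', hz'⟩ := hn _ ((Over.pullback f).map (fst G N)) ((Over.pullback f).map (snd G N) ≫ e₁)
    refine ⟨z', ?_⟩
    rw [← hz', Category.assoc, he₁, Functor.map_mul, Functor.map_mul, Functor.map_inv', Functor.map_comp])
  intro T g t
  exact ⟨lift g t ≫ w, by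
    rw [Category.assoc, hw, MonObj.comp_mul, MonObj.comp_mul, GrpObj.comp_inv, lift_fst, lift_snd_assoc]⟩

end GrothLib.UnipFix19
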