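import Groth.Agent.Lib.UnipFix19.Main
import Groth.Agent.Lib.GenSubgrp14.Product
import Groth.Agent.Lib.ConnDim.Basic
import Groth.Agent.Lib.Rigidity.Smooth.Torus
import Groth.Agent.Lib.CommSub14.Basic

/-!
# Normal subgroups without subtori: products and a largest one
-/

set_option autoImplicit false
set_option linter.all false
set_option backward.isDefEq.respectTransparency false

universe u

open CategoryTheory CategoryTheory.Limits MonoidalCategory CartesianMonoidalCategory MonObj GrpObj
open AlgebraicGeometry TopologicalSpace VecGrp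
open GrothLib.Repr GrothLib.Induce27 GrothLib.Flag27

noncomputable section

namespace GrothLib.UnipFix19

open Groth.Agent.S11191

variable {k : Type u} [Field k] [IsAlgClosed k]
variable {G : Over (Spec (CommRingCat.of k))} [GrpObj G] [IsAffine G.left] [Smooth G.hom]

omit [IsAffine G.left] in
/-- Normality may be checked on rational points. -/
theorem isNormalHom_of_pts {W : Over (Spec (CommRingCat.of k))} [GrpObj W] [Smooth W.hom] (i : W ⟶ G)
    [IsClosedImmersion i.left]
    (h : ∀ (g : 𝟙_ (Over (Spec (CommRingCat.of k))) ⟶ G) (w : 𝟙_ (Over (Spec (CommRingCat.of k))) ⟶ W),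
      ∃ w', g * (w ≫ i) * g⁻¹ = w' ≫ i) : AlgGrp.IsNormalHom i := by
  haveI : Smooth (G ⊗ W).hom := by
    show Smooth (pullback.fst G.hom W.hom ≫ G.hom)
    infer_instance
  haveI : IsReduced (G ⊗ W).left := GrothLib.RedSmooth.isReduced_of_smooth (G ⊗ W).hom
  obtain ⟨p, hp⟩ := exists_lift_of_pts ((fst G W) * (snd G W ≫ i) * (fst G W)⁻¹) i fun v => by
    obtain ⟨w', hw'⟩ := h (v ≫ fst G W) (v ≫ snd G W)
    exact ⟨w', by simp only [MonObj.comp_mul, GrpObj.comp_inv, ← Category.assoc, hw']⟩
  intro T g n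
  refine ⟨lift g n ≫ p, ?_⟩
  rw [Category.assoc, hp]
  simp [MonObj.comp_mul, GrpObj.comp_inv]

/-- The data of a smooth connected closed normal subgroup with fixed vectors. -/
structure UnipNormal (G : Over (Spec (CommRingCat.of k))) [GrpObj G] where
  U : Over (Spec (CommRingCat.of k))
  grp : GrpObj U
  u : U ⟶ G
  isMonHom : @IsMonHom _ _ _ U G grp.toMonObj _ u
  isClosedImmersion : IsClosedImmersion u.left
  smooth : Smooth U.hom
  connected : ConnectedSpace U.left
  normal : @AlgGrp.IsNormalHom _ U G grp _ u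
  fix : @Fix k _ U grp

attribute [instance] UnipNormal.grp UnipNormal.isMonHom UnipNormal.isClosedImmersion UnipNormal.smooth
  UnipNormal.connected

/-- The product of two smooth connected normal subgroups with fixed vectors. -/
theorem exists_product (P Q : UnipNormal G) :
    ∃ R : UnipNormal G, (∃ f : P.U ⟶ R.U, f ≫ R.u = P.u) ∧ (∃ f : Q.U ⟶ R.U, f ≫ R.u = Q.u) := by
  let a := P.u
  let b := Q.u
  haveI : IsAffine P.U.left := isAffine_of_isAffineHom P.u.left
  haveI : IsAffine Q.U.left := isAffine_of_isAffineHom Q.u.left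
  haveI : GeometricallyReduced P.U.hom := GrothLib.Rigidity.geometricallyReduced_of_smooth' P.U.hom
  haveI : GeometricallyReduced Q.U.hom := GrothLib.Rigidity.geometricallyReduced_of_smooth' Q.U.hom
  obtain ⟨E⟩ := GenSubgrp14.nonempty_envelope (GenSubgrp14.Two a b) fun _ _ h => by cases h <;> assumption
  let _ := E.grp
  haveI := E.isMonHom
  haveI := E.isClosedImmersion
  haveI := E.geometricallyReduced
  haveI : LocallyOfFiniteType E.Z.hom := by rw [← Over.w E.z]; infer_instance
  haveI : IsReduced E.Z.left := GenSubgrp14.isReduced_left E.Z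
  haveI : Smooth E.Z.hom := GrothLib.IsogProps19.smooth_of_reduced E.Z
  haveI : IsAffine E.Z.left := isAffine_of_isAffineHom E.z.left
  have hN : ∀ (T : Over (Spec (CommRingCat.of k))) (y : T ⟶ Q.U) (x : T ⟶ P.U),
      ∃ x' : T ⟶ P.U, (y ≫ b) * (x ≫ a) * (y ≫ b)⁻¹ = x' ≫ a := fun T y x => P.normal T (y ≫ b) x
  let m : P.U ⊗ Q.U ⟶ G := (fst _ _ ≫ a) * (snd _ _ ≫ b)
  obtain ⟨a', ha'⟩ := E.lift_word P.U a (.of .left)
  obtain ⟨b', hb'⟩ := E.lift_word Q.U b (.of .right)
  let m' : P.U ⊗ Q.U ⟶ E.Z := (fst _ _ ≫ a') * (snd _ _ ≫ b')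
  have hm' : m' ≫ E.z = m := by
    show ((fst _ _ ≫ a') * (snd _ _ ≫ b')) ≫ E.z = _
    rw [MonObj.mul_comp, Category.assoc, Category.assoc, ha', hb']
  have hr : Set.range E.z.left = closure (Set.range m.left) := by
    rw [E.range_eq]
    refine le_antisymm (closure_mono ?_) (closure_mono ?_)
    · rintro g ⟨W, w, hw, hg'⟩
      obtain ⟨x, y, rfl⟩ := GenSubgrp14.exists_eq_mul_of_isWord a b hN hw
      refine GenSubgrp14.range_subset_of_comp (lift x y) m ?_
      simpa [m, MonObj.comp_mul] using hg'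
    · exact fun g hg' => ⟨_, m, .mul (.of .left) (.of .right), hg'⟩
  haveI : IrreducibleSpace P.U.left := GrothLib.Rigidity.irreducibleSpace_of_connected P.U
  haveI : IrreducibleSpace Q.U.left := GrothLib.Rigidity.irreducibleSpace_of_connected Q.U
  haveI : Smooth (P.U ⊗ Q.U).hom := by
    show Smooth (pullback.fst P.U.hom Q.U.hom ≫ P.U.hom)
    infer_instance
  have hirr : IsPreirreducible (Set.univ : Set (P.U ⊗ Q.U).left) := by
    haveI : GeometricallyIrreducible Q.U.hom := GrothLib.CommSub14.geometricallyIrreducible_of_connected Q.U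
    haveI := GrothLib.AlgSp.universallyOpen_to_field Q.U.hom
    haveI : IrreducibleSpace ↥(pullback P.U.hom Q.U.hom) := inferInstance
    haveI : IrreducibleSpace ↥(P.U ⊗ Q.U).left := ‹IrreducibleSpace ↥(pullback P.U.hom Q.U.hom)›
    exact (IrreducibleSpace.isIrreducible_univ _).isPreirreducible
  haveI : ConnectedSpace E.Z.left := by
    have h1 : _root_.IsConnected (Set.range E.z.left) := by
      rw [hr]
      refine IsIrreducible.isConnected (IsIrreducible.closure ⟨?_, ?_⟩)
      · exact ⟨_, (1 : 𝟙_ (Over (Spec (CommRingCat.of k))) ⟶ P.U ⊗ Q.U).left.base (IsLocalRing.closedPoint k) |>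
          fun z => Set.mem_range_self (f := m.left) z⟩
      · rw [← Set.image_univ]
        exact hirr.image _ m.left.continuous.continuousOn
    haveI : ConnectedSpace (Set.range E.z.left) := Subtype.connectedSpace h1
    let e := E.z.left.isClosedEmbedding.isEmbedding.toHomeomorph
    exact e.symm.surjective.connectedSpace e.symm.continuous
  have hdense : ∀ (F : Set E.Z.left), IsClosed F → Set.range m'.left ⊆ F → F = Set.univ := by
    intro F hF hsub
    refine Set.eq_univ_of_forall fun z => ?_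
    have h1 : E.z.left z ∈ closure (E.z.left '' F) := by
      refine closure_mono ?_ (hr.le ⟨z, rfl⟩)
      rintro _ ⟨q, rfl⟩
      exact ⟨m'.left q, hsub ⟨q, rfl⟩, by rw [← Scheme.Hom.comp_apply, ← Over.comp_left, hm']⟩
    rw [(E.z.left.isClosedEmbedding.isClosedMap F hF).closure_eq] at h1
    obtain ⟨z', hz', e⟩ := h1
    rwa [← E.z.left.isClosedEmbedding.injective e]
  have hcl : ∀ {Y : Over (Spec (CommRingCat.of k))} (t t' : E.Z ⟶ Y) [IsSeparated Y.hom],
      m' ≫ t = m' ≫ t' → t = t' := by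
    intro Y t t' _ e
    haveI : IsDominant m'.left := ⟨fun z => by
      rw [hdense _ isClosed_closure subset_closure]; trivial⟩
    haveI : IsSeparated (E.Z.left ↘ Spec (CommRingCat.of k)) := inferInstanceAs (IsSeparated E.Z.hom)
    exact Over.OverMorphism.ext (ext_of_isDominant_of_isSeparated Y.hom (by rw [Over.w, Over.w]) m'.left
      (congrArg CommaMorphism.left e))
  -- normality
  have hnorm : AlgGrp.IsNormalHom E.z := by
    refine isNormalHom_of_pts E.z fun g w => ?_
    let c : E.Z ⟶ G := (toUnit _ ≫ g) * E.z * (toUnit _ ≫ g)⁻¹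
    have hsub : Set.range c.left.base ⊆ Set.range E.z.left.base := by
      have h1 : c.left.base ⁻¹' Set.range E.z.left.base = Set.univ := by
        refine hdense _ (E.z.left.isClosedEmbedding.isClosed_range.preimage c.left.continuous) ?_
        rintro _ ⟨q, rfl⟩
        obtain ⟨x₁, hx₁⟩ := P.normal _ (toUnit _ ≫ g) (fst P.U Q.U)
        obtain ⟨y₁, hy₁⟩ := Q.normal _ (toUnit _ ≫ g) (snd P.U Q.U)
        have e : m' ≫ c = lift x₁ y₁ ≫ m' ≫ E.z := by
          rw [hm']
          simp only [c, m, a, b, MonObj.comp_mul, GrpObj.comp_inv, lift_fst_assoc, lift_snd_assoc, hm']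
          rw [← hx₁, ← hy₁]
          simp only [← Category.assoc, toUnit_unique (m' ≫ toUnit E.Z) (toUnit _)]
          group
        show c.left (m'.left q) ∈ Set.range E.z.left
        rw [← Scheme.Hom.comp_apply, ← Over.comp_left, e, ← Category.assoc, Over.comp_left, Scheme.Hom.comp_apply]
        exact ⟨_, rfl⟩
      rintro _ ⟨z, rfl⟩
      exact (h1.ge (Set.mem_univ z) : _)
    obtain ⟨c', hc'⟩ := RedSub.exists_lift c.left E.z.left hsub
    refine ⟨w ≫ Over.homMk c' ((congrArg (c' ≫ ·) (Over.w E.z).symm).trans ((Category.assoc _ _ _).symm.trans ((congrArg (· ≫ G.hom) hc').trans (Over.w c)))), ?_⟩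
    rw [Category.assoc]
    have : (Over.homMk c' ((congrArg (c' ≫ ·) (Over.w E.z).symm).trans ((Category.assoc _ _ _).symm.trans ((congrArg (· ≫ G.hom) hc').trans (Over.w c)))) : E.Z ⟶ E.Z) ≫ E.z = c :=
      Over.OverMorphism.ext hc'
    rw [this]
    simp only [c, MonObj.comp_mul, GrpObj.comp_inv, ← Category.assoc, toUnit_unique (w ≫ toUnit E.Z) (toUnit _)]
    rw [toUnit_unique (toUnit (𝟙_ (Over (Spec (CommRingCat.of k))))) (𝟙 _), Category.id_comp]
  -- fixed vectors
  have hfix : Fix E.Z := by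
    intro n M hM
    haveI : Mono E.z := Over.mono_of_mono_left E.z
    haveI : IsMonHom (a' ≫ E.z) := by rw [ha']; exact P.isMonHom
    haveI : IsMonHom (b' ≫ E.z) := by rw [hb']; exact Q.isMonHom
    haveI : IsMonHom a' := GrothLib.Flag27.isMonHom_of_comp a' E.z
    haveI : IsMonHom b' := GrothLib.Flag27.isMonHom_of_comp b' E.z
    let F : Submodule k (Fin (n + 1) → k) :=
      { carrier := {w | ∀ x : pt k k ⟶ P.U, (evM M (x ≫ a')).mulVec w = w}
        add_mem' := fun {v w} hv hw x => by rw [Matrix.mulVec_add, hv x, hw x]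
        zero_mem' := fun x => Matrix.mulVec_zero _
        smul_mem' := fun c w hw x => by rw [Matrix.mulVec_smul, hw x] }
    obtain ⟨w₀, hw₀, hfix₀⟩ := P.fix n _ (isRep_pull hM a')
    have hw₀F : w₀ ∈ F := fun x => by rw [← evM_pull]; exact hfix₀ x
    have hstab : ∀ (y : pt k k ⟶ Q.U) (w : Fin (n + 1) → k), w ∈ F → (evM M (y ≫ b')).mulVec w ∈ F := by
      intro y w hw x
      obtain ⟨x', hx'⟩ := P.normal _ (y ≫ b)⁻¹ x
      rw [_root_.inv_inv] at hx'
      have e : (x ≫ a') * (y ≫ b') = (y ≫ b') * (x' ≫ a') := by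
        haveI : Mono E.z := Over.mono_of_mono_left E.z
        rw [← cancel_mono E.z, MonObj.mul_comp, MonObj.mul_comp, Category.assoc, Category.assoc, Category.assoc,
          ha', hb', ← hx']
        simp only [a]
        group
      rw [Matrix.mulVec_mulVec, ← hM.mul, e, hM.mul, ← Matrix.mulVec_mulVec, hw x']
    have hne : F ≠ ⊥ := fun e => hw₀ ((Submodule.mem_bot k).1 (e ▸ hw₀F))
    obtain ⟨d, hd⟩ : ∃ d, Module.finrank k F = d + 1 :=
      Nat.exists_eq_succ_of_ne_zero fun h0 => hne (Submodule.finrank_eq_zero.1 h0)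
    let B := Module.finBasisOfFinrankEq k F hd
    let I : (Fin (d + 1) → k) →ₗ[k] (Fin (n + 1) → k) := F.subtype ∘ₗ B.equivFun.symm.toLinearMap
    have hIinj : LinearMap.ker I = ⊥ := LinearMap.ker_eq_bot.2 (F.subtype_injective.comp B.equivFun.symm.injective)
    obtain ⟨π, hπ⟩ := I.exists_leftInverse_of_injective hIinj
    let Pm := LinearMap.toMatrix' π
    let Im := LinearMap.toMatrix' I
    have hPI : Pm * Im = 1 := by rw [← LinearMap.toMatrix'_comp, hπ, LinearMap.toMatrix'_id]
    let M' : Matrix (Fin (d + 1)) (Fin (d + 1)) (Fn Q.U) :=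
      Pm.map (algebraMap k (Fn Q.U)) * M.map (fnMap b') * Im.map (algebraMap k (Fn Q.U))
    have hev : ∀ y, evM M' y = Pm * evM M (y ≫ b') * Im := fun y => by
      rw [← evM_pull, evM, Matrix.map_mul, Matrix.map_mul, Matrix.map_map, Matrix.map_map]
      congr 2 <;> refine Matrix.ext fun i j => ?_ <;> simp [evM]
    have hIm : ∀ v, Im.mulVec v = I v := fun v => by
      rw [← Matrix.toLin'_apply, Matrix.toLin'_toMatrix']
    have hIF : ∀ v, I v ∈ F := fun v => (B.equivFun.symm v).2
    have hIπ : ∀ w ∈ F, Im.mulVec (Pm.mulVec w) = w := by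
      intro w hw
      obtain ⟨v, hv⟩ : ∃ v, I v = w := ⟨B.equivFun ⟨w, hw⟩, by simp [I]⟩
      rw [← hv, ← hIm v, Matrix.mulVec_mulVec v Pm Im, hPI, Matrix.one_mulVec]
    have hM' : IsRep M' := by
      refine ⟨?_, fun g h => ?_⟩
      · rw [hev, MonObj.one_comp, hM.one, Matrix.mul_one, hPI]
      · refine Matrix.ext_of_mulVec_single fun j => ?_
        rw [hev, hev, hev, MonObj.mul_comp, hM.mul]
        simp only [← Matrix.mulVec_mulVec]
        rw [hIπ _ (hstab h _ (by rw [hIm]; exact hIF _))]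
    obtain ⟨v, hv, hvfix⟩ := Q.fix d M' hM'
    refine ⟨Im.mulVec v, fun e => hv ?_, ?_⟩
    · have := congrArg Pm.mulVec e
      rwa [Matrix.mulVec_mulVec, hPI, Matrix.one_mulVec, Matrix.mulVec_zero] at this
    have hImF : Im.mulVec v ∈ F := by rw [hIm]; exact hIF v
    have hQ : ∀ y : pt k k ⟶ Q.U, (evM M (y ≫ b')).mulVec (Im.mulVec v) = Im.mulVec v := by
      intro y
      have e := congrArg Im.mulVec (hvfix y)
      rw [hev, ← Matrix.mulVec_mulVec, ← Matrix.mulVec_mulVec, hIπ _ (hstab y _ hImF)] at e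
      exact e
    intro g
    funext j
    let φ : Fn E.Z := ∑ l, M j l * algebraMap k (Fn E.Z) (Im.mulVec v l)
    have hφ : ∀ g : pt k k ⟶ E.Z, valAt g φ = (evM M g).mulVec (Im.mulVec v) j := fun g => by
      simp [φ, Matrix.mulVec, dotProduct, evM, map_sum, map_mul]
    have hzero : φ = algebraMap k (Fn E.Z) (Im.mulVec v j) := by
      haveI : IsDominant m'.left := ⟨fun z => by
        rw [hdense _ isClosed_closure subset_closure]; trivial⟩
      haveI : IsSchemeTheoreticallyDominant m'.left := .of_isDominant _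
      haveI : IsAffine (P.U ⊗ Q.U).left := inferInstanceAs (IsAffine (pullback P.U.hom Q.U.hom))
      refine (m'.left.app_injective ⊤ : Function.Injective m'.left.appTop.hom) ?_
      show fnMap m' φ = fnMap m' (algebraMap k (Fn E.Z) (Im.mulVec v j))
      haveI : IsAffine (P.U ⊗ Q.U).left := inferInstanceAs (IsAffine (pullback P.U.hom Q.U.hom))
      refine ext_valAt fun q => ?_
      rw [← valAt_comp, ← valAt_comp, hφ, AlgHom.commutes]
      have e : q ≫ m' = ((q ≫ fst P.U Q.U) ≫ a') * ((q ≫ snd P.U Q.U) ≫ b') := by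
        simp [m', MonObj.comp_mul]
      rw [e, hM.mul, ← Matrix.mulVec_mulVec, hQ, hImF]
      rfl
    rw [← hφ, hzero, AlgHom.commutes]
    rfl
  exact ⟨⟨E.Z, E.grp, E.z, E.isMonHom, E.isClosedImmersion, inferInstance, inferInstance, hnorm, hfix⟩,
    ⟨a', ha'⟩, ⟨b', hb'⟩⟩

/-- The trivial subgroup. -/
theorem nonempty_unipNormal : Nonempty (UnipNormal G) := by
  haveI : IsSeparated G.hom := inferInstance
  haveI : IsClosedImmersion (η[G] : 𝟙_ (Over (Spec (CommRingCat.of k))) ⟶ G).left := by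
    haveI : IsClosedImmersion ((η[G] : 𝟙_ (Over (Spec (CommRingCat.of k))) ⟶ G).left ≫ G.hom) := by
      rw [Over.w]
      exact inferInstanceAs (IsClosedImmersion (𝟙 _))
    exact IsClosedImmersion.of_comp _ G.hom
  haveI : IsMonHom (η[G] : 𝟙_ (Over (Spec (CommRingCat.of k))) ⟶ G) := by infer_instance
  refine ⟨⟨𝟙_ _, inferInstance, η[G], inferInstance, inferInstance, inferInstanceAs (Smooth (𝟙 _)), ?_, ?_, ?_⟩⟩
  · exact inferInstanceAs (ConnectedSpace (PrimeSpectrum k))
  · intro T g n
    refine ⟨n, ?_⟩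
    rw [toUnit_unique n (toUnit T), ← Hom.one_def, _root_.mul_one, mul_inv_cancel]
  · intro n M hM
    exact ⟨Pi.single 0 1, by simp, fun g => by
      rw [show g = 1 from toUnit_unique _ _, hM.one, Matrix.one_mulVec]⟩

omit [IsAffine G.left] [GrpObj G] in
theorem dim_range {X : Over (Spec (CommRingCat.of k))} (f : X ⟶ G) [IsClosedImmersion f.left] :
    topologicalKrullDim (Set.range f.left.base) = topologicalKrullDim X.left :=
  (f.left.isClosedEmbedding.isEmbedding.toHomeomorph.isHomeomorph.topologicalKrullDim_eq).symm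

theorem exists_nat_le {x : WithBot ℕ∞} (h : x < ⊤) : ∃ n : ℕ, x ≤ n := by
  induction x with
  | bot => exact ⟨0, bot_le⟩
  | coe a =>
    obtain ⟨n, rfl⟩ := ENat.ne_top_iff_exists.1 (ne_top_of_lt (WithBot.coe_lt_coe.1 h))
    exact ⟨n, le_rfl⟩

theorem exists_nat_eq {x : WithBot ℕ∞} (h : x < ⊤) (h0 : 0 ≤ x) : ∃ n : ℕ, x = n := by
  induction x with
  | bot => exact absurd h0 (by simp)
  | coe a =>
    obtain ⟨n, rfl⟩ := ENat.ne_top_iff_exists.1 (ne_top_of_lt (WithBot.coe_lt_coe.1 h))
    exact ⟨n, rfl⟩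

theorem dim_nonneg (T : Type u) [TopologicalSpace T] [Nonempty T] : 0 ≤ topologicalKrullDim T := by
  obtain ⟨x⟩ := ‹Nonempty T›
  haveI : Nonempty (IrreducibleCloseds T) :=
    ⟨⟨closure {x}, isIrreducible_singleton.closure, isClosed_closure⟩⟩
  exact Order.krullDim_nonneg

/-- There is a largest smooth connected normal subgroup with fixed vectors. -/
theorem exists_largest : ∃ P : UnipNormal G, ∀ Q : UnipNormal G, ∃ f : Q.U ⟶ P.U, f ≫ P.u = Q.u := by
  classical
  have htop : ∀ Q : UnipNormal G, topologicalKrullDim Q.U.left < ⊤ := fun Q => by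
    haveI : IsAffine Q.U.left := isAffine_of_isAffineHom Q.u.left
    exact GrothLib.IsogProps19.topologicalKrullDim_lt_top Q.U
  haveI : IsLocallyNoetherian G.left := LocallyOfFiniteType.isLocallyNoetherian (Y := Spec _) G.hom
  haveI : AlgebraicGeometry.IsNoetherian G.left := {}
  obtain ⟨N, hN⟩ : ∃ N : ℕ, topologicalKrullDim G.left ≤ N :=
    exists_nat_le (GrothLib.IsogProps19.topologicalKrullDim_lt_top G)
  have hle : ∀ Q : UnipNormal G, topologicalKrullDim Q.U.left ≤ N := fun Q =>
    (Q.u.left.isClosedEmbedding.isInducing.topologicalKrullDim_le).trans hN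
  let S : Set ℕ := {d | ∃ Q : UnipNormal G, (d : WithBot ℕ∞) ≤ topologicalKrullDim Q.U.left}
  obtain ⟨P₀⟩ := nonempty_unipNormal (G := G)
  have h0 : 0 ∈ S := ⟨P₀, by
    haveI := P₀.connected
    haveI : Nonempty P₀.U.left := ConnectedSpace.toNonempty
    exact_mod_cast dim_nonneg P₀.U.left⟩
  have hSb : ∀ d ∈ S, d ≤ N := by
    rintro d ⟨Q, hQ⟩
    exact_mod_cast hQ.trans (hle Q)
  have hSf : BddAbove S := ⟨N, hSb⟩
  obtain ⟨P, hP⟩ := Nat.sSup_mem ⟨0, h0⟩ hSf
  refine ⟨P, fun Q => ?_⟩
  obtain ⟨R, ⟨f, hf⟩, ⟨g, hg⟩⟩ := exists_product P Q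
  have hsub : Set.range P.u.left.base ⊆ Set.range R.u.left.base := by
    rw [← hf]; exact GenSubgrp14.range_subset_of_comp f R.u
  have heq : Set.range P.u.left.base = Set.range R.u.left.base := by
    by_contra hne
    haveI := GrothLib.Rigidity.irreducibleSpace_of_connected R.U
    have hlt := GrothLib.ConnDim.dim_lt hsub hne P.u.left.isClosedEmbedding.isClosed_range
      R.u.left.isClosedEmbedding.isClosed_range
      (Set.image_univ ▸ (IrreducibleSpace.isIrreducible_univ R.U.left).image _ R.u.left.continuous.continuousOn)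
      (by rw [dim_range]; exact htop R)
    rw [dim_range, dim_range] at hlt
    obtain ⟨e, he⟩ := exists_nat_eq (htop R) (dim_nonneg _)
    have hmem : e ∈ S := ⟨R, he.ge⟩
    have h1 : (e : WithBot ℕ∞) ≤ topologicalKrullDim P.U.left :=
      le_trans (by exact_mod_cast le_csSup hSf hmem) hP
    exact absurd (he ▸ h1) (not_le.2 hlt)
  haveI : IsReduced Q.U.left := GrothLib.RedSmooth.isReduced_of_smooth Q.U.hom
  obtain ⟨l, hl⟩ := RedSub.exists_lift Q.u.left P.u.left (by
    rw [heq, ← hg]; exact GenSubgrp14.range_subset_of_comp g R.u)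
  exact ⟨Over.homMk l (by rw [← Over.w P.u, ← Category.assoc, hl, Over.w Q.u]), Over.OverMorphism.ext hl⟩

end GrothLib.UnipFix19
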