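import Groth.Agent.Lib.UnipFix19.Solvable

/-!
# Reductive groups over a field
-/

set_option autoImplicit false
set_option linter.all false
set_option backward.isDefEq.respectTransparency false

universe u

open CategoryTheory CategoryTheory.Limits AlgebraicGeometry TopologicalSpace

noncomputable section

namespace GrothLib.UnipFix19

variable {k : Type u} [Field k] {G : Over (Spec (CommRingCat.of k))} [GrpObj G]

/-- Reductive groups over a field are affine, smooth and connected. -/
theorem props_of_isReductive (hG : Red.IsReductive G) :
    IsAffine G.left ∧ Smooth G.hom ∧ ConnectedSpace G.left := by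
  obtain ⟨ha, hs, hf⟩ := hG
  haveI := ha
  let s : ↥(Spec (CommRingCat.of k)) := IsLocalRing.closedPoint k
  haveI : ConnectedSpace ↥(Limits.pullback G.hom (Red.geomPt s)) := (hf s).2.2.1
  haveI := GrothLib.Flag27.surjective_to_field (Red.geomPt s)
  haveI : Surjective (pullback.fst G.hom (Red.geomPt s)) := MorphismProperty.pullback_fst _ _ ‹_›
  exact ⟨isAffine_of_isAffineHom G.hom, hs,
    (pullback.fst G.hom (Red.geomPt s)).surjective.connectedSpace (pullback.fst G.hom (Red.geomPt s)).continuous⟩

/-- Monomorphisms of tori into affine groups over a field are closed immersions. -/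
theorem torus_closed [IsAffine G.left] [LocallyOfFiniteType G.hom] {T : Over (Spec (CommRingCat.of k))} [GrpObj T]
    (j : T ⟶ G) [IsMonHom j] [Mono j] (hT : Red.IsTorus T) :
    IsClosedImmersion j.left ∧ Smooth T.hom ∧ ConnectedSpace T.left := by
  haveI := GrothLib.TorusNorm25.smooth_of_isTorus hT
  haveI := (GrothLib.Rigidity.smooth_connected_of_isTorus T hT).2
  haveI := GrothLib.Rigidity.irreducibleSpace_of_connected T
  haveI := GrothLib.Homog14.compactSpace_of_irreducible T
  haveI : QuasiCompact T.hom := (quasiCompact_iff_compactSpace T.hom).2 inferInstance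
  haveI : QuasiCompact (j.left ≫ G.hom) := by rw [Over.w]; infer_instance
  haveI : QuasiCompact j.left := QuasiCompact.of_comp j.left G.hom
  exact ⟨GrothLib.AffMono14.isClosedImmersion_of_mono j, ‹_›, ‹_›⟩

end GrothLib.UnipFix19
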