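import Groth.Agent.Lib.UnipFix19.PerfectRad
import Groth.Agent.Lib.Flag27.UnipRad
import Groth.Agent.Lib.Flag27.CentBC

/-!
# Unipotent subgroups of tori
-/

set_option autoImplicit false
set_option linter.all false
set_option backward.isDefEq.respectTransparency false

universe u

open CategoryTheory CategoryTheory.Limits MonoidalCategory CartesianMonoidalCategory MonObj GrpObj
open AlgebraicGeometry TopologicalSpace

noncomputable section

namespace GrothLib.UnipFix19

variable {k : Type u} [Field k]

/-- A subgroup of a torus without subtori in the geometric fibre has trivial geometric fibre. -/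
theorem isTrivialGrp_fibre_of_le_torus {G N R : Over (Spec (CommRingCat.of k))} [GrpObj G] [GrpObj N] [GrpObj R]
    [IsAffine N.left] [Smooth N.hom] [ConnectedSpace N.left] [IsAffine R.left] [LocallyOfFiniteType R.hom]
    (n : N ⟶ G) [IsMonHom n] [IsClosedImmersion n.left] (r : R ⟶ G) [IsMonHom r] [Mono r] (hR : Red.IsTorus R)
    (l : N ⟶ R) (hl : l ≫ r = n) (s : ↥(Spec (CommRingCat.of k)))
    (hn : Red.HasNoSubtorus (AlgebraicClosure ((Spec (CommRingCat.of k)).residueField s)) (Red.geomFibre s N)) :
    Red.IsTrivialGrp (Red.geomFibre s N) := by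
  haveI := GrothLib.Flag27.smooth_bc (Red.geomPt s) N
  haveI := GrothLib.Flag27.connectedSpace_bc (Red.geomPt s) N
  haveI : IsAffine (Red.bc (Red.geomPt s) N).left := GrothLib.Flag27.isAffine_bc (Red.geomPt s) N
  haveI : IsAffine (Red.bc (Red.geomPt s) R).left := GrothLib.Flag27.isAffine_bc (Red.geomPt s) R
  haveI : LocallyOfFiniteType (Red.bc (Red.geomPt s) R).hom :=
    inferInstanceAs (LocallyOfFiniteType (pullback.snd R.hom (Red.geomPt s)))
  haveI : IsMonHom (l ≫ r) := by rw [hl]; infer_instance
  haveI : IsMonHom l := GrothLib.Flag27.isMonHom_of_comp l r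
  haveI : Mono n := Over.mono_of_mono_left n
  haveI : Mono (l ≫ r) := by rw [hl]; infer_instance
  haveI : Mono l := mono_of_mono l r
  obtain ⟨lK, hlK⟩ : ∃ lK, lK = (Over.pullback (Red.geomPt s)).map l := ⟨_, rfl⟩
  haveI : Mono lK := by
    rw [hlK]
    haveI : (Over.pullback (Red.geomPt s)).IsRightAdjoint := (Over.mapPullbackAdj _).isRightAdjoint
    exact Functor.map_mono _ l
  haveI : IsMonHom lK := by rw [hlK]; infer_instance
  have h1 := (GrothLib.Flag27.isUnip_of_noSubtorus hn).1.hom_torus_eq_one
    (GrothLib.Flag27.isTorus_bc_field _ hR) lK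
  have h2 : (𝟙 (Red.geomFibre s N)) = 1 := by
    rw [← cancel_mono lK, MonObj.one_comp, Category.id_comp, h1]
  show IsIso (Red.geomFibre s N).hom
  refine ⟨(η[Red.geomFibre s N] : 𝟙_ _ ⟶ Red.geomFibre s N).left, ?_, Over.w _⟩
  have h3 := congrArg (fun w : Red.geomFibre s N ⟶ Red.geomFibre s N => w.left) h2
  rw [Hom.one_def, Over.comp_left, Over.id_left, Over.toUnit_left] at h3
  exact h3.symm

end GrothLib.UnipFix19
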