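import Groth.Agent.Lib.UnipFix19.PerfectRad
import Groth.Agent.Lib.UnipFix19.TorusUnip
import Groth.Agent.Lib.Flag27.UnipRad
import Groth.Prelude.Def_Par

/-!
# Quotients by radicals over perfect fields
-/

set_option autoImplicit false
set_option linter.all false
set_option backward.isDefEq.respectTransparency false

universe u

open CategoryTheory CategoryTheory.Limits MonoidalCategory CartesianMonoidalCategory MonObj GrpObj
open AlgebraicGeometry TopologicalSpace
open GrothLib.CentMT14 GrothLib.MultHopf14

noncomputable section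

set_option synthInstance.maxHeartbeats 200000
set_option maxHeartbeats 1000000

namespace GrothLib.UnipFix19

variable {k : Type u} [Field k]

/-- Inverse images of smooth connected normal subgroups, over any field. -/
theorem exists_preimage_field {G G' R U : Over (Spec (CommRingCat.of k))} [GrpObj G] [GrpObj G'] [GrpObj R] [GrpObj U]
    [IsAffine G.left] [Smooth G.hom] [Smooth G'.hom] (q : G ⟶ G') [IsMonHom q] [Surjective q.left]
    (r : R ⟶ G) [IsMonHom r] [Smooth R.hom] [ConnectedSpace R.left] (hq : AlgGrp.IsKernel r q)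
    (i : U ⟶ G') [IsMonHom i] [IsClosedImmersion i.left] [Smooth U.hom] [ConnectedSpace U.left]
    (hN : AlgGrp.IsNormalHom i) :
    ∃ (N : Over (Spec (CommRingCat.of k))) (_ : GrpObj N) (n : N ⟶ G) (a : N ⟶ U), IsMonHom n ∧ IsMonHom a ∧
      IsClosedImmersion n.left ∧ Smooth N.hom ∧ ConnectedSpace N.left ∧ AlgGrp.IsNormalHom n ∧ Surjective a.left ∧
      a ≫ i = n ≫ q := by
  haveI : IsAffine G'.left := Chevalley.isAffine_of_surjective_hom q
  haveI : Mono i := Over.mono_of_mono_left i
  let P : Over (Spec (CommRingCat.of k)) := Over.mk (pullback.snd i.left q.left ≫ G.hom)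
  let b : P ⟶ G := Over.homMk (pullback.snd i.left q.left) rfl
  let a : P ⟶ U := Over.homMk (pullback.fst i.left q.left) (by
    show pullback.fst i.left q.left ≫ U.hom = pullback.snd i.left q.left ≫ G.hom
    rw [← Over.w i, pullback.condition_assoc, Over.w q])
  have hsqL : IsPullback a.left b.left i.left q.left := IsPullback.of_hasPullback i.left q.left
  have hsq : IsPullback a b i q := IsPullback.of_map (Over.forget _) (Over.OverMorphism.ext hsqL.w) hsqL
  haveI : IsClosedImmersion b.left := inferInstanceAs (IsClosedImmersion (pullback.snd i.left q.left))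
  haveI : Surjective a.left := inferInstanceAs (Surjective (pullback.fst i.left q.left))
  obtain ⟨hP, ha, hb⟩ := GrothLib.SubPre14.exists_grpObj_pullback q i a b hsq
  haveI := ha; haveI := hb
  haveI : Mono b := Over.mono_of_mono_left b
  haveI : IsAffine P.left := isAffine_of_isAffineHom b.left
  haveI : IsAffine U.left := isAffine_of_isAffineHom i.left
  haveI : LocallyOfFiniteType P.hom := by rw [← Over.w b]; infer_instance
  haveI : QuasiCompact a.left := inferInstance
  have h1 : (1 : R ⟶ U) ≫ i = r ≫ q := by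
    rw [MonObj.one_comp, hq.w, ← Hom.one_def]
  let c : R ⟶ P := hsq.lift 1 r h1
  have hk : GrothLib.SubPre14.KerPairFactors a c := by
    let W := pullback a a
    have hd : ((pullback.fst a a)⁻¹ * pullback.snd a a) ≫ a = 1 := by
      rw [MonObj.mul_comp, GrpObj.inv_comp, pullback.condition, inv_mul_cancel]
    have hw : (((pullback.fst a a)⁻¹ * pullback.snd a a) ≫ b) ≫ q = toUnit W ≫ η[G'] := by
      rw [Category.assoc, ← hsq.w, reassoc_of% hd, MonObj.one_comp, Hom.one_def]
    refine ⟨W, _, _, hq.lift _ (toUnit W) hw, IsPullback.of_hasPullback a a, ?_⟩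
    rw [← cancel_mono b, Category.assoc, hsq.lift_snd, hq.lift_fst]
  haveI : Smooth P.hom := GrothLib.SubPre14.smooth_field a c hk
  haveI : IsReduced U.left := GrothLib.RedSmooth.isReduced_of_smooth U.hom
  haveI : Flat a.left := GrothLib.GrpSchField.flat_hom a
  haveI : LocallyOfFiniteType a.left := by
    haveI : LocallyOfFiniteType (a.left ≫ U.hom) := by rw [Over.w a]; infer_instance
    exact locallyOfFiniteType_of_comp a.left U.hom
  haveI : IsLocallyNoetherian U.left := LocallyOfFiniteType.isLocallyNoetherian U.hom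
  haveI : LocallyOfFinitePresentation a.left := inferInstance
  haveI : ConnectedSpace P.left := GrothLib.SubPre14.connected_field a a.left.isOpenMap c hk
  refine ⟨P, hP, b, a, hb, ha, ‹IsClosedImmersion b.left›, ‹Smooth P.hom›, ‹ConnectedSpace P.left›, fun T g x => ?_,
    ‹Surjective a.left›, hsq.w⟩
  obtain ⟨u, hu⟩ := hN T (g ≫ q) (x ≫ a)
  have h2 : u ≫ i = (g * (x ≫ b) * g⁻¹) ≫ q := by
    rw [← hu, MonObj.mul_comp, MonObj.mul_comp, GrpObj.inv_comp, Category.assoc, Category.assoc, hsq.w]
  exact ⟨hsq.lift u _ h2, (hsq.lift_snd _ _ h2).symm⟩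

/-- Homomorphisms from tori to unipotent groups are trivial. -/
theorem hom_unip_eq_one {U : Over (Spec (CommRingCat.of k))} [GrpObj U] (h : GrothLib.Flag27.IsUnip k U)
    {D : Over (Spec (CommRingCat.of k))} [GrpObj D] [IsAffine D.left]
    [LocallyOfFiniteType D.hom] (hD : Red.IsTorus D) (χ : D ⟶ U) [IsMonHom χ] : χ = 1 := by
  obtain ⟨A, _, _, hft, hu, ⟨e⟩⟩ := h
  obtain ⟨M, _, _, ⟨eM⟩⟩ := exists_hopf D (isAffineHom_of_isAffine _)
  haveI := GrothLib.Flag27.finiteType_of_grpIso eM
  obtain ⟨φ, hφ⟩ := GrothLib.Flag27.exists_specMap e eM χ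
  have h1 := GrothLib.Flag27.specMap_eq_one φ
    ((Groth.Agent.S2966.result (GrothLib.Flag27.isDiagonalizable_of_isTorus eM hD) hu).1 φ)
  haveI : IsMonHom e.hom.hom.hom := e.hom.hom.isMonHom_hom
  have he : eM.inv.hom.hom ≫ eM.hom.hom.hom = 𝟙 D := congrArg (fun w => w.hom.hom) eM.inv_hom_id
  rw [h1, MonObj.one_comp] at hφ
  rw [← Category.id_comp χ, ← he, Category.assoc, ← hφ, MonObj.comp_one]

/-- A group with surjective trivial endomorphism data is trivial. -/
theorem isTrivialGrp_of_eq_one {N U : Over (Spec (CommRingCat.of k))} [GrpObj N] [GrpObj U] [Smooth U.hom]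
    [ConnectedSpace U.left] (a : N ⟶ U) [Surjective a.left] (h : a = 1) : Red.IsTrivialGrp U := by
  haveI : Subsingleton U.left := by
    refine ⟨fun x y => ?_⟩
    obtain ⟨x', rfl⟩ := a.left.surjective x
    obtain ⟨y', rfl⟩ := a.left.surjective y
    rw [h, Hom.one_def, Over.comp_left, Scheme.Hom.comp_apply, Scheme.Hom.comp_apply]
    exact congrArg _ (Subsingleton.elim (α := PrimeSpectrum k) _ _)
  haveI : Finite U.left := inferInstance
  haveI : IsFinite U.hom := (GrothLib.CartTorsor.isFinite_iff_finite U.hom).2 inferInstance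
  exact GrothLib.IsogProps19.isTrivialGrp_of_isFinite U

/-- Base changes of trivial groups are trivial. -/
theorem isTrivialGrp_bc {S' : Scheme.{u}} (f : S' ⟶ Spec (CommRingCat.of k)) {N : Over (Spec (CommRingCat.of k))}
    (h : Red.IsTrivialGrp N) : Red.IsTrivialGrp (Red.bc f N) := by
  haveI : IsIso N.hom := h
  show IsIso (pullback.snd N.hom f)
  infer_instance

/-- Solvable extensions over a field. -/
theorem isSolvableGrp_preimage_field {G G' R U N : Over (Spec (CommRingCat.of k))} [GrpObj G] [GrpObj G'] [GrpObj R]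
    [GrpObj U] [GrpObj N] [Smooth N.hom] [IsAffine N.left] (q : G ⟶ G') [IsMonHom q]
    (r : R ⟶ G) [IsMonHom r] [Mono r] (hq : AlgGrp.IsKernel r q) (n : N ⟶ G) [IsMonHom n] [Mono n]
    (a : N ⟶ U) [IsMonHom a] (i : U ⟶ G') [IsMonHom i] (hw : a ≫ i = n ≫ q)
    (hR : Red.IsSolvableGrp R) (hU : Red.IsSolvableGrp U) : Red.IsSolvableGrp N := by
  let s : ↥(Spec (CommRingCat.of k)) := IsLocalRing.closedPoint k
  obtain ⟨f, hf⟩ : ∃ f, f = Red.geomPt s := ⟨_, rfl⟩
  haveI : (Over.pullback f).IsRightAdjoint := (Over.mapPullbackAdj _).isRightAdjoint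
  haveI := GrothLib.Flag27.smooth_bc f N
  haveI : IsAffine (Red.bc f N).left := GrothLib.Flag27.isAffine_bc f N
  haveI : Mono ((Over.pullback f).map r) := Functor.map_mono _ r
  haveI : Mono ((Over.pullback f).map n) := Functor.map_mono _ n
  haveI : IsSeparated (Red.bc f N).hom := inferInstance
  exact isSolvableGrp_of_bc f (isSolvableGrp_preimage ((Over.pullback f).map q) ((Over.pullback f).map r)
    (GrothLib.SplitTors24.isKernel_bc f hq) ((Over.pullback f).map n) ((Over.pullback f).map a)
    ((Over.pullback f).map i) (by rw [← Functor.map_comp, hw, Functor.map_comp])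
    (GrothLib.Flag27.isSolvable_points (isSolvableGrp_bc f hR))
    (GrothLib.Flag27.isSolvable_points (isSolvableGrp_bc f hU)))

/-- The quotient by the radical is semisimple. -/
theorem isSemisimple_quotient [PerfectField k] {G R G' : Over (Spec (CommRingCat.of k))} [GrpObj G] [GrpObj R]
    [GrpObj G'] [IsAffine G.left] [Smooth G.hom] [ConnectedSpace G.left] (r : R ⟶ G) [IsMonHom r]
    [IsClosedImmersion r.left] [Smooth R.hom] [ConnectedSpace R.left] (hsolv : Red.IsSolvableGrp R)
    (hmax : ∀ (R' : Over (Spec (CommRingCat.of k))) [GrpObj R'] (r' : R' ⟶ G) [IsMonHom r'], IsClosedImmersion r'.left →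
      Smooth R'.hom → ConnectedSpace R'.left → Red.IsSolvableGrp R' → AlgGrp.IsNormalHom r' →
      ∃ f : R' ⟶ R, f ≫ r = r')
    [Smooth G'.hom] (q : G ⟶ G') [IsMonHom q] [Surjective q.left] (hq : AlgGrp.IsKernel r q) :
    Red.IsSemisimple G' := by
  haveI : IsAffine G'.left := Chevalley.isAffine_of_surjective_hom q
  haveI : ConnectedSpace G'.left := q.left.surjective.connectedSpace q.left.continuous
  haveI : Mono r := Over.mono_of_mono_left r
  have key : ∀ (U : Over (Spec (CommRingCat.of k))) [GrpObj U] (i : U ⟶ G') [IsMonHom i],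
      IsClosedImmersion i.left → Smooth U.hom → ConnectedSpace U.left → AlgGrp.IsNormalHom i →
      Red.IsSolvableGrp U → Red.IsTrivialGrp U := by
    intro U _ i _ hi hUs hUc hUn hUsol
    haveI := hi; haveI := hUs; haveI := hUc
    obtain ⟨N, _, n, a, hn, ha', hnc, hNs, hNc, hNn, hsurj, hw⟩ := exists_preimage_field q r hq i hUn
    haveI := hn; haveI := ha'; haveI := hnc; haveI := hNs; haveI := hNc; haveI := hsurj
    haveI : Mono n := Over.mono_of_mono_left n
    haveI : Mono i := Over.mono_of_mono_left i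
    haveI : IsAffine N.left := isAffine_of_isAffineHom n.left
    obtain ⟨f, hf⟩ := hmax N n hnc hNs hNc (isSolvableGrp_preimage_field q r hq n a i hw hsolv hUsol) hNn
    refine isTrivialGrp_of_eq_one a ?_
    rw [← cancel_mono i, hw, ← hf, Category.assoc, hq.w, MonObj.one_comp, Hom.one_def, ← Category.assoc,
      toUnit_unique (f ≫ toUnit R) (toUnit N)]
  have hred : Red.IsReductive G' := isReductive_of_forall G' fun s N _ n _ hnc hNs hNc hNn hno hsol =>
    isTrivialGrp_bc _ (key N n hnc hNs hNc hNn hsol)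
  refine isSemisimple_of_reductive hred fun T _ t _ _ hT hc => ?_
  obtain ⟨h1, h2, h3⟩ := torus_closed t hT
  haveI := isCommMonObj_torus hT
  haveI : IsIso T.hom := key T t h1 h2 h3 (fun X g x => ⟨x, by rw [← hc X x g, mul_inv_cancel_right]⟩)
    (isSolvableGrp_of_comm T)
  have h4 : (𝟙 T : T ⟶ T) = 1 := Over.OverMorphism.ext ((cancel_mono T.hom).1 (by rw [Over.w, Over.w]))
  rw [← Category.id_comp t, h4, MonObj.one_comp]

/-- The quotient by the unipotent radical is reductive. -/
theorem isReductive_quotient [PerfectField k] {G U G' : Over (Spec (CommRingCat.of k))} [GrpObj G] [GrpObj U]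
    [GrpObj G'] [IsAffine G.left] [Smooth G.hom] [ConnectedSpace G.left] (u : U ⟶ G)
    (hU : Par.IsUnipotentRadical u) [Smooth G'.hom] (q : G ⟶ G') [IsMonHom q] [Surjective q.left]
    (hq : AlgGrp.IsKernel u q) : Red.IsReductive G' := by
  obtain ⟨hum, huc, hun, hus, huq, hug, humax⟩ := hU
  haveI := hum; haveI := huc; haveI := hus
  haveI : ConnectedSpace U.left := by
    let s : ↥(Spec (CommRingCat.of k)) := IsLocalRing.closedPoint k
    haveI : ConnectedSpace ↥(Limits.pullback U.hom (Red.geomPt s)) := (hug s).1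
    haveI := GrothLib.Flag27.surjective_to_field (Red.geomPt s)
    haveI : Surjective (pullback.fst U.hom (Red.geomPt s)) := MorphismProperty.pullback_fst _ _ ‹_›
    exact (pullback.fst U.hom (Red.geomPt s)).surjective.connectedSpace (pullback.fst U.hom (Red.geomPt s)).continuous
  haveI : IsAffine G'.left := Chevalley.isAffine_of_surjective_hom q
  haveI : ConnectedSpace G'.left := q.left.surjective.connectedSpace q.left.continuous
  haveI : Mono u := Over.mono_of_mono_left u
  refine isReductive_of_forall G' fun s M _ i _ hi hMs hMc hMn hno hsol => isTrivialGrp_bc _ ?_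
  haveI := hi; haveI := hMs; haveI := hMc
  obtain ⟨N, grpN, n, a, hn, ha', hnc, hNs, hNc, hNn, hsurj, hw⟩ := exists_preimage_field q u hq i hMn
  haveI := hn; haveI := ha'; haveI := hnc; haveI := hNs; haveI := hNc; haveI := hsurj
  haveI : Mono n := Over.mono_of_mono_left n
  haveI : Mono i := Over.mono_of_mono_left i
  haveI : IsAffine N.left := isAffine_of_isAffineHom n.left
  haveI : IsAffine M.left := isAffine_of_isAffineHom i.left
  obtain ⟨f, hf⟩ := humax N n hnc hNn hNs inferInstance fun s' => by
    refine ⟨GrothLib.Flag27.connectedSpace_bc (Red.geomPt s') N, ?_⟩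
    intro T _ j _ _ hT
    obtain rfl : s' = s := Subsingleton.elim (α := PrimeSpectrum k) _ _
    obtain ⟨hTs, hTq, hTc, -⟩ := GrothLib.IsogProps19.torus_props T hT
    haveI := hTs; haveI := hTq; haveI := hTc
    haveI := GrothLib.Flag27.smooth_bc (Red.geomPt s') M
    haveI := GrothLib.Flag27.connectedSpace_bc (Red.geomPt s') M
    haveI : IsAffine (Red.bc (Red.geomPt s') M).left := GrothLib.Flag27.isAffine_bc (Red.geomPt s') M
    haveI : IsAffine (Red.bc (Red.geomPt s') N).left := GrothLib.Flag27.isAffine_bc (Red.geomPt s') N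
    haveI := GrothLib.Flag27.smooth_bc (Red.geomPt s') N
    haveI : IsClosedImmersion j.left := GrothLib.AlgGrp14.isClosedImmersion_of_mono j
    haveI : IsAffine T.left := isAffine_of_isAffineHom j.left
    have h1 : j ≫ (Over.pullback (Red.geomPt s')).map a = 1 :=
      hom_unip_eq_one (GrothLib.Flag27.isUnip_of_noSubtorus hno).1 hT _
    have hqK := GrothLib.SplitTors24.isKernel_bc (Red.geomPt s') hq
    have h2 : (j ≫ (Over.pullback (Red.geomPt s')).map n) ≫ (Over.pullback (Red.geomPt s')).map q =
        toUnit T ≫ η[Red.geomFibre s' G'] := by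
      rw [Category.assoc, ← Functor.map_comp, ← hw, Functor.map_comp, reassoc_of% h1, MonObj.one_comp, Hom.one_def]
    haveI : (Over.pullback (Red.geomPt s')).IsRightAdjoint := (Over.mapPullbackAdj _).isRightAdjoint
    haveI : Mono ((Over.pullback (Red.geomPt s')).map n) := Functor.map_mono _ n
    haveI : Mono ((Over.pullback (Red.geomPt s')).map u) := Functor.map_mono _ u
    obtain ⟨l, hl⟩ : ∃ l, l ≫ (Over.pullback (Red.geomPt s')).map u = j ≫ (Over.pullback (Red.geomPt s')).map n :=
      ⟨hqK.lift _ _ h2, hqK.lift_fst _ _ h2⟩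
    haveI : IsMonHom (l ≫ (Over.pullback (Red.geomPt s')).map u) := by rw [hl]; infer_instance
    haveI : IsMonHom l := GrothLib.Flag27.isMonHom_of_comp l ((Over.pullback (Red.geomPt s')).map u)
    haveI : Mono (l ≫ (Over.pullback (Red.geomPt s')).map u) := by rw [hl]; infer_instance
    haveI : Mono l := mono_of_mono l ((Over.pullback (Red.geomPt s')).map u)
    exact (hug s').2 T l hT
  refine isTrivialGrp_of_eq_one a ?_
  rw [← cancel_mono i, hw, ← hf, Category.assoc, hq.w, MonObj.one_comp, Hom.one_def, ← Category.assoc,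
    toUnit_unique (f ≫ toUnit U) (toUnit N)]

end GrothLib.UnipFix19
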