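import Groth.Agent.Lib.UnipFix19.Reductive
import Groth.Agent.Lib.Flag27.UnipRad
import Groth.Agent.Lib.Flag27.Small
import Groth.Agent.Lib.GrpClass19.Locus

/-!
# Solvable normal subgroups of reductive groups
-/

set_option autoImplicit false
set_option linter.all false
set_option backward.isDefEq.respectTransparency false

universe u

open CategoryTheory CategoryTheory.Limits MonoidalCategory CartesianMonoidalCategory MonObj GrpObj
open AlgebraicGeometry TopologicalSpace

noncomputable section

namespace GrothLib.UnipFix19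

/-- Solvability is stable under base change. -/
theorem isSolvableGrp_bc {S S' : Scheme.{u}} (f : S' ⟶ S) {G : Over S} [GrpObj G] (h : Red.IsSolvableGrp G) :
    Red.IsSolvableGrp (Red.bc f G) := by
  obtain ⟨n, hn⟩ := h
  exact ⟨n, fun X => (GrothLib.GrpClass19.derived_congr (GrothLib.DiagGrp.bcPointMulEquiv f G X) n).1 (hn _)⟩

/-- Commutative groups are solvable. -/
theorem isSolvableGrp_of_comm {S : Scheme.{u}} (G : Over S) [GrpObj G] [IsCommMonObj G] : Red.IsSolvableGrp G := by
  refine ⟨1, fun X => ?_⟩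
  haveI : IsMulCommutative (X ⟶ G) := (isCommMonObj_iff_isMulCommutative G).1 ‹_› X
  rw [derivedSeries_one, commutator_def, Subgroup.commutator_eq_bot_iff_le_centralizer]
  intro a _
  exact Subgroup.mem_centralizer_iff.2 fun b _ => mul_comm' b a

variable {k : Type u} [Field k] [IsAlgClosed k]

/-- A solvable reductive group is a torus. -/
theorem isTorus_of_solvable {R : Over (Spec (CommRingCat.of k))} [GrpObj R] (hG : Red.IsReductiveOver k R)
    (hs : Red.IsSolvableGrp R) : Red.IsTorus R := by
  obtain ⟨ha, hsm, hc, hu⟩ := hG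
  haveI := ha; haveI := hsm; haveI := hc
  obtain ⟨D, _, U₀, _, p, s, u₀, r, hp, hs', hu₀, hsp, hDt, hDa, hDs, hDc, hu₀c, hu₀p, hur, hru, hUu, hU₀s, hU₀c⟩ :=
    GrothLib.Flag27.hasSplit_of_solvable (GrothLib.Flag27.isSolvable_points hs)
  haveI := hp; haveI := hs'; haveI := hu₀; haveI := hu₀c
  have hn : AlgGrp.IsNormalHom u₀ := fun T g n => by
    refine ⟨(g * (n ≫ u₀) * g⁻¹) ≫ r, ?_⟩
    have h1 : (g * (n ≫ u₀) * g⁻¹) ≫ p = 1 := by
      rw [MonObj.mul_comp, MonObj.mul_comp, GrpObj.inv_comp, Category.assoc, hu₀p, MonObj.comp_one, _root_.mul_one,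
        mul_inv_cancel]
    rw [Category.assoc, hru, MonObj.comp_mul, GrpObj.comp_inv, Category.comp_id, ← Category.assoc, h1,
      MonObj.one_comp, _root_.inv_one, _root_.mul_one]
  haveI : IsIso U₀.hom := hu U₀ u₀ hu₀c hU₀s hU₀c hn hUu.hasNoSubtorus
  have hr1 : r = 1 := Over.OverMorphism.ext ((cancel_mono U₀.hom).1 ((Over.w r).trans (Over.w (1 : R ⟶ U₀)).symm))
  rw [hr1, MonObj.one_comp, eq_comm, mul_inv_eq_one] at hru
  haveI : IsIso s := ⟨p, hsp, hru.symm⟩
  exact GrothLib.Flag27.isTorus_of_grpIso (Grp.mkIso (asIso s) (IsMonHom.one_hom _) (IsMonHom.mul_hom _)) hDt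

/-- A solvable smooth connected normal subgroup of a reductive group over a field is a torus. -/
theorem isTorus_of_solvable_normal {F : Type u} [Field F] {G R : Over (Spec (CommRingCat.of F))} [GrpObj G]
    [GrpObj R] (hG : Red.IsReductive G) (r : R ⟶ G) [IsMonHom r] [IsClosedImmersion r.left] [Smooth R.hom]
    [ConnectedSpace R.left] (hN : AlgGrp.IsNormalHom r) (hs : Red.IsSolvableGrp R) : Red.IsTorus R := by
  obtain ⟨ha, hsm, hf⟩ := hG
  let s : ↥(Spec (CommRingCat.of F)) := IsLocalRing.closedPoint F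
  haveI := GrothLib.Flag27.smooth_bc (Red.geomPt s) R
  haveI := GrothLib.Flag27.connectedSpace_bc (Red.geomPt s) R
  exact isTorus_of_bc_field (Red.geomPt s) (isTorus_of_solvable
    (isReductiveOver_normal (hf s) ((Over.pullback (Red.geomPt s)).map r) (isNormalHom_map _ hN))
    (isSolvableGrp_bc _ hs))

/-- Tori are commutative. -/
theorem isCommMonObj_torus {S : Scheme.{u}} {T : Over S} [GrpObj T] (hT : Red.IsTorus T) : IsCommMonObj T := by
  rw [isCommMonObj_iff_isMulCommutative]
  exact fun X => ⟨⟨fun s t =>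
    GrothLib.DiagGrp.mul_comm_of_charts (GrothLib.DiagGrp.hasChartsFpqc_of_isTorus hT) X s t⟩⟩

/-- Normal subgroups of multiplicative type of connected groups over a field are central. -/
theorem central_of_normal_multType {F : Type u} [Field F] {G H : Over (Spec (CommRingCat.of F))} [GrpObj G]
    [GrpObj H] [LocallyOfFiniteType G.hom] [ConnectedSpace G.left] (i : H ⟶ G) [IsMonHom i] [Mono i]
    (hH : SGA3x.IsMultTypeFT H) (hn : AlgGrp.IsNormalHom i) :
    ∀ (X : Over (Spec (CommRingCat.of F))) (g : X ⟶ G) (h : X ⟶ H), g * (h ≫ i) = (h ≫ i) * g :=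
  Groth.Agent.S5255.result G H
    (fun s => GrothLib.Flag27.connectedSpace_bc (K := (Spec (CommRingCat.of F)).residueField s)
      ((Spec (CommRingCat.of F)).fromSpecResidueField s) G) i hH hn

end GrothLib.UnipFix19
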