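import Groth.Agent.Lib.Flag27.RepExists
import Groth.Agent.Lib.Flag27.Preimage
import Groth.Agent.Lib.NoTorus14.Basic
import Groth.Agent.Lib.EtSite.RadicialEtale
import Groth.Agent.Lib.Flag27.SolvQuot
import Groth.Agent.Lib.IsogProps19.Torus
import Groth.Agent.S4112

/-!
# Groups all whose representations have fixed vectors
-/

set_option autoImplicit false
set_option linter.style.haveILetI false
set_option backward.isDefEq.respectTransparency false

universe u

open CategoryTheory CategoryTheory.Limits MonoidalCategory CartesianMonoidalCategory MonObj GrpObj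
open AlgebraicGeometry VecGrp
open GrothLib.Repr GrothLib.Induce27 GrothLib.Flag27

noncomputable section

namespace GrothLib.UnipFix19

open Groth.Agent.S11191

variable {k : Type u} [Field k] [IsAlgClosed k]
variable {G H : Over (Spec (CommRingCat.of k))} [GrpObj G] [GrpObj H]

/-- Every representation has a non-zero vector fixed by all rational points. -/
def Fix (G : Over (Spec (CommRingCat.of k))) [GrpObj G] : Prop :=
  ∀ (n : ℕ) (M : Matrix (Fin (n + 1)) (Fin (n + 1)) (Fn G)), IsRep M →
    ∃ w : Fin (n + 1) → k, w ≠ 0 ∧ ∀ g, (evM M g).mulVec w = w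

omit [IsAlgClosed k] [GrpObj G] [GrpObj H] in
theorem evM_pull {σι : Type} (M : Matrix σι σι (Fn G)) (f : H ⟶ G) (h : pt k k ⟶ H) :
    evM (M.map (fnMap f)) h = evM M (h ≫ f) :=
  Matrix.ext fun _ _ => (valAt_comp h f _).symm

omit [IsAlgClosed k] in
theorem isRep_pull {σι : Type} [Fintype σι] [DecidableEq σι] {M : Matrix σι σι (Fn G)} (hM : IsRep M)
    (f : H ⟶ G) [IsMonHom f] : IsRep (M.map (fnMap f)) :=
  ⟨by rw [evM_pull, MonObj.one_comp, hM.one],
    fun g h => by rw [evM_pull, evM_pull, evM_pull, MonObj.mul_comp, hM.mul]⟩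

omit [GrpObj G] [GrpObj H] in
/-- Surjective homomorphisms are surjective on rational points. -/
theorem exists_pt_lift [LocallyOfFiniteType H.hom] [LocallyOfFiniteType G.hom] (f : H ⟶ G) [Surjective f.left]
    (g : pt k k ⟶ G) : ∃ h : pt k k ⟶ H, h ≫ f = g := by
  obtain ⟨z, -, hz⟩ := exists_cl_lift f (E := Set.univ) isClosed_univ.isLocallyClosed (w := ptOne.inv ≫ g)
    (by rw [Set.image_univ]; exact f.left.surjective _)
  exact ⟨ptOne.hom ≫ z, by rw [Category.assoc, hz, Iso.hom_inv_id_assoc]⟩

theorem fix_of_surjective [LocallyOfFiniteType H.hom] [LocallyOfFiniteType G.hom] (f : H ⟶ G) [IsMonHom f]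
    [Surjective f.left] (h : Fix H) : Fix G := by
  intro n M hM
  obtain ⟨w, hw, hfix⟩ := h n _ (isRep_pull hM f)
  refine ⟨w, hw, fun g => ?_⟩
  obtain ⟨x, rfl⟩ := exists_pt_lift f g
  rw [← evM_pull]
  exact hfix x

/-- Rational points of such groups act unipotently. -/
theorem unipotent_of_fix (hG : Fix G) : ∀ (d : ℕ) (M : Matrix (Fin d) (Fin d) (Fn G)), IsRep M →
    ∀ g, (evM M g - 1) ^ d = 0
  | 0, M, _, g => Subsingleton.elim _ _
  | n + 1, M, hM, g => by
    obtain ⟨w, hw, hwe⟩ := hG n M hM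
    obtain ⟨p, Q, Q', hQQ', hQ'Q, hQp⟩ := exists_conj w hw
    let M' := Q'.map (algebraMap k (Fn G)) * M * Q.map (algebraMap k (Fn G))
    let A := fun g : pt k k ⟶ G => evM M' g
    have hA : ∀ g, A g = Q' * evM M g * Q := fun g => evM_conj M Q' Q g
    have hAmul : ∀ g h, A (g * h) = A g * A h := fun g h => by
      rw [hA, hA, hA, hM.mul]
      calc Q' * (evM M g * evM M h) * Q = Q' * evM M g * (Q * Q') * (evM M h * Q) := by
            rw [hQQ', _root_.mul_one]; noncomm_ring
        _ = _ := by noncomm_ring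
    have hAone : A 1 = 1 := by rw [hA, hM.one, _root_.mul_one, hQ'Q]
    have hcol : ∀ g, (A g).mulVec (Pi.single p 1) = Pi.single p 1 := fun g => by
      rw [hA, ← Matrix.mulVec_mulVec, hQp, ← Matrix.mulVec_mulVec, hwe, ← hQp,
        Matrix.mulVec_mulVec, hQ'Q, Matrix.one_mulVec]
    have hcol' : ∀ g j, A g j p = (Pi.single p 1 : Fin (n + 1) → k) j := fun g j => by
      rw [← congrFun (hcol g) j, Matrix.mulVec_single_one]
      rfl
    let M'' := M'.submatrix p.succAbove p.succAbove
    have hB : ∀ g, evM M'' g = (A g).submatrix p.succAbove p.succAbove := fun g => rfl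
    have hM'' : IsRep M'' := by
      refine ⟨?_, fun g h => ?_⟩
      · rw [hB, hAone, Matrix.submatrix_one _ Fin.succAbove_right_injective]
      · refine Matrix.ext fun a b => ?_
        rw [hB, hB, hB, Matrix.submatrix_apply, hAmul, Matrix.mul_apply, Matrix.mul_apply,
          Fin.sum_univ_succAbove _ p, hcol' g, Pi.single_eq_of_ne (Fin.succAbove_ne p a), zero_mul,
          _root_.zero_add]
        rfl
    have ih := unipotent_of_fix hG n M'' hM'' g
    let N := A g - 1
    have hNp : ∀ j, N j p = 0 := fun j => by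
      simp only [N, Matrix.sub_apply, hcol', Matrix.one_apply, Pi.single_apply, sub_self]
    have hsub : ∀ m : ℕ, ∀ a b, (N ^ m) (p.succAbove a) (p.succAbove b) = ((evM M'' g - 1) ^ m) a b := by
      intro m
      induction m with
      | zero => intro a b; simp [Matrix.one_apply, Fin.succAbove_right_injective.eq_iff]
      | succ m ihm =>
        intro a b
        rw [pow_succ', pow_succ', Matrix.mul_apply, Matrix.mul_apply, Fin.sum_univ_succAbove _ p, hNp, zero_mul,
          _root_.zero_add]
        refine Finset.sum_congr rfl fun c _ => ?_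
        rw [ihm, hB]
        simp [N, Matrix.one_apply, Fin.succAbove_right_injective.eq_iff]
    have hN : N ^ (n + 1) = 0 := by
      refine Matrix.ext fun i j => ?_
      rw [Matrix.zero_apply]
      by_cases hj : j = p
      · rw [hj, pow_succ, Matrix.mul_apply]
        exact Finset.sum_eq_zero fun c _ => by rw [hNp, mul_zero]
      obtain ⟨b, rfl⟩ := Fin.exists_succAbove_eq hj
      rw [pow_succ', Matrix.mul_apply, Fin.sum_univ_succAbove _ p, hNp, zero_mul, _root_.zero_add]
      exact Finset.sum_eq_zero fun c _ => by rw [hsub, ih, Matrix.zero_apply, mul_zero]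
    have e : evM M g - 1 = Q * N * Q' := by
      simp only [N, hA]
      calc evM M g - 1 = (Q * Q') * evM M g * (Q * Q') - Q * Q' := by
            rw [hQQ', _root_.mul_one, _root_.one_mul]
        _ = _ := by noncomm_ring
    have hpow : ∀ m : ℕ, (Q * N * Q') ^ m = Q * N ^ m * Q' := by
      intro m
      induction m with
      | zero => rw [pow_zero, pow_zero, _root_.mul_one, hQQ']
      | succ m ihm =>
        rw [pow_succ, ihm, pow_succ]
        calc Q * N ^ m * Q' * (Q * N * Q') = Q * N ^ m * (Q' * Q) * N * Q' := by noncomm_ring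
          _ = _ := by rw [hQ'Q]; noncomm_ring
    rw [e, hpow, hN, mul_zero, zero_mul]

omit [IsAlgClosed k] in
/-- A unipotent matrix of finite order invertible in the field is the identity. -/
theorem eq_one_of_pow {d ℓ : ℕ} (hℓ : (ℓ : k) ≠ 0) (E : Matrix (Fin d) (Fin d) k) (hE : (E - 1) ^ d = 0)
    (h : E ^ ℓ = 1) : E = 1 := by
  have hsum : IsUnit (∑ i ∈ Finset.range ℓ, E ^ i) := by
    obtain ⟨R, hR⟩ : ∃ R, (∑ i ∈ Finset.range ℓ, E ^ i) - (ℓ : Matrix (Fin d) (Fin d) k) = (E - 1) * R ∧
        Commute (E - 1) R := by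
      refine ⟨∑ i ∈ Finset.range ℓ, ∑ j ∈ Finset.range i, E ^ j, ?_, ?_⟩
      · rw [Finset.mul_sum]
        simp only [mul_geom_sum]
        rw [Finset.sum_sub_distrib]
        simp
      · refine Commute.sum_right _ _ _ fun i _ => Commute.sum_right _ _ _ fun j _ => ?_
        exact ((Commute.refl E).sub_left (Commute.one_left E)).pow_right j
    have hnil : IsNilpotent ((E - 1) * R) := hR.2.isNilpotent_mul_right ⟨d, hE⟩
    have hu : IsUnit (ℓ : Matrix (Fin d) (Fin d) k) := by
      rw [← map_natCast (algebraMap k (Matrix (Fin d) (Fin d) k)) ℓ]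
      exact (isUnit_iff_ne_zero.2 hℓ).map _
    have hs : (∑ i ∈ Finset.range ℓ, E ^ i) = (ℓ : Matrix (Fin d) (Fin d) k) + (E - 1) * R := by
      rw [← hR.1]; abel
    rw [hs]
    exact hnil.isUnit_add_left_of_commute hu (Nat.commute_cast _ ℓ).symm.symm
  have h0 : (E - 1) * (∑ i ∈ Finset.range ℓ, E ^ i) = 0 := by rw [mul_geom_sum, h, sub_self]
  obtain ⟨s, hs⟩ := hsum
  rw [← hs, Units.mul_left_eq_zero] at h0
  exact sub_eq_zero.1 h0

variable [IsAffine G.left] [Smooth G.hom]

/-- Groups with fixed vectors in all representations have no non-trivial subtori. -/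
theorem hasNoSubtorus_of_fix (hG : Fix G) : Red.HasNoSubtorus k G := by
  intro T _ j _ _ hT
  obtain ⟨hsm, hqc, hcon, hirr⟩ := GrothLib.IsogProps19.torus_props T hT
  haveI := hsm; haveI := hqc
  haveI : IsCommMonObj T := GrothLib.IsogProps19.isCommMonObj_of_torus T hT
  obtain ⟨d, M, hM, hf⟩ := exists_faithful (G := G)
  refine GrothLib.NoTorus14.isTrivialGrp_of_mono hT (𝟙 T) fun ℓ hℓ Y y hy => ?_
  haveI : Etale ((𝟙 T : T ⟶ T) ^ ℓ).left := Groth.Agent.S4112.result k T ℓ hℓ
  haveI := GrothLib.GrpSchField.isSeparated T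
  haveI : IsSeparated ((𝟙 T : T ⟶ T) ^ ℓ).left := by
    haveI : IsSeparated (((𝟙 T : T ⟶ T) ^ ℓ).left ≫ T.hom) := by rw [Over.w]; infer_instance
    exact IsSeparated.of_comp _ T.hom
  haveI : UniversallyInjective ((𝟙 T : T ⟶ T) ^ ℓ).left := by
    refine GrothLib.Flag27.universallyInjective_of_pts _ fun v w hvw => ?_
    have key : ∀ t : pt k k ⟶ T, t ^ ℓ = 1 → t = 1 := by
      intro t ht
      have he : evM M (t ≫ j) = 1 := by
        refine eq_one_of_pow hℓ _ (unipotent_of_fix hG d M hM _) ?_
        have hp : ∀ m : ℕ, evM M ((t ≫ j) ^ m) = evM M (t ≫ j) ^ m := by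
          intro m
          induction m with
          | zero => rw [pow_zero, pow_zero, hM.one]
          | succ m ih => rw [pow_succ, pow_succ, hM.mul, ih]
        rw [← hp]
        have : (t ≫ j) ^ ℓ = 1 := by
          rw [← MonObj.pow_comp, ht, MonObj.one_comp]
        rw [this, hM.one]
      rw [← cancel_mono j, MonObj.one_comp]
      exact hf _ he
    simp only [MonObj.comp_pow, Category.comp_id] at hvw
    have h1 : ptOne.hom ≫ v * (ptOne.hom ≫ w)⁻¹ = (1 : pt k k ⟶ T) := by
      refine key _ ?_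
      rw [mul_pow, inv_pow, ← MonObj.comp_pow, ← MonObj.comp_pow, hvw, mul_inv_cancel]
    exact (cancel_epi ptOne.hom).1 (mul_inv_eq_one.1 h1)
  haveI := GrothLib.EtSite.isOpenImmersion_of_etale_universallyInjective ((𝟙 T : T ⟶ T) ^ ℓ).left
  haveI : Mono ((𝟙 T : T ⟶ T) ^ ℓ) := Over.mono_of_mono_left _
  rw [← cancel_mono ((𝟙 T : T ⟶ T) ^ ℓ), MonObj.comp_pow, Category.comp_id, hy, MonObj.comp_pow, Category.comp_id,
    one_pow]

end GrothLib.UnipFix19
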