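import Groth.Agent.Lib.UnipFix19.Basic
import Groth.Agent.Lib.Flag27.RepExists
import Groth.Agent.Lib.Flag27.Cartan
import Groth.Agent.Lib.Flag27.TorusConj
import Groth.Agent.Lib.HopfAG.Dense
import Mathlib.LinearAlgebra.Matrix.Polynomial
import Mathlib.GroupTheory.Abelianization.Defs
import Mathlib.FieldTheory.Fixed

/-!
# Central tori meet the closure of the commutators in finitely many points
-/

set_option autoImplicit false
set_option linter.all false
set_option backward.isDefEq.respectTransparency false

universe u

open CategoryTheory CategoryTheory.Limits MonoidalCategory CartesianMonoidalCategory MonObj GrpObj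
open AlgebraicGeometry VecGrp
open GrothLib.Repr GrothLib.Induce27 GrothLib.Flag27 GrothLib.MultHopf14 GrothLib.CentMT14

noncomputable section

namespace GrothLib.UnipFix19

open Groth.Agent.S11191

variable {k : Type u} [Field k] [IsAlgClosed k]

omit [IsAlgClosed k] in
/-- The values of `det (1 + (c - 1) P)` equal one only finitely often. -/
theorem finite_det_eq_one {d : ℕ} (P : Matrix (Fin d) (Fin d) k) (hP : P * P = P) (h0 : P ≠ 0) :
    {c : k | (1 + (c - 1) • P).det = 1}.Finite := by
  classical
  let q : Polynomial k := (1 + ((Polynomial.X : Polynomial k) - 1) • P.map Polynomial.C).det - 1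
  have heval : ∀ c, q.eval c = (1 + (c - 1) • P).det - 1 := fun c => by
    show Polynomial.evalRingHom c q = _
    rw [map_sub, RingHom.map_det, map_one]
    congr 2
    refine Matrix.ext fun i j => ?_
    simp only [RingHom.mapMatrix_apply, Matrix.map_apply, Matrix.add_apply, Matrix.smul_apply, smul_eq_mul,
      map_add, map_mul, map_sub, Polynomial.coe_evalRingHom, Polynomial.eval_X, Polynomial.eval_one,
      Polynomial.eval_C, Matrix.one_apply]
    split_ifs <;> simp
  have hd : (1 - P).det = 0 := by
    by_contra h
    refine h0 ?_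
    have h1 : (1 - P) * P = 0 := by rw [Matrix.sub_mul, Matrix.one_mul, hP, sub_self]
    have h2 := congrArg ((1 - P)⁻¹ * ·) h1
    simpa [← Matrix.mul_assoc, Matrix.nonsing_inv_mul _ (isUnit_iff_ne_zero.2 h)] using h2
  have hq : q ≠ 0 := fun h => by
    have := heval 0
    rw [h, Polynomial.eval_zero, zero_sub, neg_smul, one_smul, ← sub_eq_add_neg, hd, zero_sub] at this
    exact one_ne_zero (neg_eq_zero.1 this.symm)
  refine (Polynomial.finite_setOf_isRoot hq).subset fun c hc => ?_
  show q.eval c = 0
  rw [heval, show (1 + (c - 1) • P).det = 1 from hc, sub_self]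

/-- Points of a central torus on which every function vanishing on the commutators vanishes. -/
theorem finite_central_pts {G T : Over (Spec (CommRingCat.of k))} [GrpObj G] [GrpObj T] [IsAffine G.left]
    [Smooth G.hom] (iT : T ⟶ G) [IsMonHom iT] [Mono iT] (hT : Red.IsTorus T)
    (hcen : ∀ (t : pt k k ⟶ T) (g : pt k k ⟶ G), g * (t ≫ iT) = (t ≫ iT) * g) :
    {t : pt k k ⟶ T | ∀ h : Fn G, (∀ g ∈ commutator (pt k k ⟶ G), valAt g h = 0) →
      valAt (t ≫ iT) h = 0}.Finite := by
  classical
  obtain ⟨-, hTa, hTs, hTc⟩ := torus_facts hT iT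
  haveI := hTa; haveI := hTs; haveI := hTc
  haveI := GrothLib.Rigidity.irreducibleSpace_of_connected T
  haveI : IsReduced T.left := GrothLib.RedSmooth.isReduced_of_smooth T.hom
  haveI : IsIntegral T.left := isIntegral_of_irreducibleSpace_of_isReduced _
  obtain ⟨A, _, _, ⟨e⟩⟩ := exists_hopf T (isAffineHom_of_isAffine _)
  haveI := finiteType_of_grpIso e
  haveI : IsDomain A := by
    let i : specGrp (R := k) A ≅ T := (Grp.forget _).mapIso e
    haveI : IsIso i.inv.left := inferInstanceAs (IsIso ((Over.forget _).map i.inv))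
    haveI : IsIntegral (Spec (CommRingCat.of A)) := .of_isIso i.inv.left
    exact (affine_isIntegral_iff (CommRingCat.of A)).1 inferInstance
  have hA : HopfRep.IsDiagonalizable k A := by
    obtain ⟨L, _, _, hL⟩ := exists_split_functions e hT
    haveI : Coalgebra.IsCocomm k A := NoPrim.isCocomm_of_isDiagonalizable L hL
    exact NoPrim.isDiagonalizable_of_isAlgClosed (TorusPrim24.noPrimElt_of_isTorus e hT)
  obtain ⟨d, M, hM, hf⟩ := exists_faithful (G := G)
  let Mf : Matrix (Fin d) (Fin d) A := fun i j => valAt (e.hom.hom.hom : pt k A ⟶ T) (fnMap iT (M i j))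
  have hev : ∀ φ, evM M (ptsEquiv e φ ≫ iT) = Mf.map φ.ofConv := fun φ => Matrix.ext fun i j => by
    show valAt (ptsEquiv e φ ≫ iT) (M i j) = φ.ofConv _
    rw [valAt_comp]
    exact valAt_ptMap_comp φ.ofConv (e.hom.hom.hom : pt k A ⟶ T) (fnMap iT (M i j))
  have hspan : ∀ x : A, ∃ c : GroupLike k A →₀ k, (c.sum fun m a => a • (m : A)) = x := fun x => by
    refine Finsupp.mem_span_range_iff_exists_finsupp.1 ?_
    have : Set.range (fun m : GroupLike k A => (m : A)) = {a : A | IsGroupLikeElem k a} := by
      ext x
      exact ⟨by rintro ⟨m, rfl⟩; exact m.2, fun hx => ⟨⟨x, hx⟩, rfl⟩⟩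
    rw [this, hA]; trivial
  choose c hc using fun i j => hspan (Mf i j)
  let S : Finset (GroupLike k A) := Finset.univ.biUnion fun p : Fin d × Fin d => (c p.1 p.2).support
  let P : S → Matrix (Fin d) (Fin d) k := fun m i j => c i j m.1
  let χ : S → (WithConv (A →ₐ[k] k) →* k) := fun m =>
    { toFun := fun φ => φ.ofConv (m.1 : A)
      map_one' := by simp [AlgHom.convOne_def, m.1.2.counit_eq_one]
      map_mul' := fun φ ψ => by
        show (φ * ψ).ofConv (m.1 : A) = _
        rw [AlgHom.convMul_apply, m.1.2.comul_eq_tmul_self]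
        simp }
  have hexp : ∀ φ, evM M (ptsEquiv e φ ≫ iT) = ∑ m, χ m φ • P m := fun φ => by
    rw [hev]
    refine Matrix.ext fun i j => ?_
    rw [Matrix.map_apply, ← hc i j, Finsupp.sum_of_support_subset (c i j) (s := S)
      (Finset.subset_biUnion_of_mem (fun p : Fin d × Fin d => (c p.1 p.2).support) (Finset.mem_univ (i, j)))
      (fun m a => a • (m : A)) (fun m _ => zero_smul k (m : A)), map_sum, ← Finset.sum_coe_sort, Matrix.sum_apply]
    exact Finset.sum_congr rfl fun m _ => by rw [map_smul, smul_eq_mul, Matrix.smul_apply, smul_eq_mul, mul_comm]; rfl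
  have hχ : Function.Injective χ := fun m l h => by
    refine Subtype.ext (GroupLike.ext (sub_eq_zero.1 (GrothLib.Dense.eq_zero_of_forall_point (k := k) _ fun φ => ?_)))
    rw [map_sub, sub_eq_zero]
    exact DFunLike.congr_fun h (WithConv.toConv φ)
  have hlin : ∀ Q : S → Matrix (Fin d) (Fin d) k, (∀ φ, ∑ m, χ m φ • Q m = 0) → ∀ m, Q m = 0 := by
    intro Q hQ m
    have hli := (linearIndependent_monoidHom (WithConv (A →ₐ[k] k)) k).comp χ hχ
    refine Matrix.ext fun i j => Fintype.linearIndependent_iff.1 hli (fun m => Q m i j) ?_ m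
    funext φ
    have := congrFun (congrFun (hQ φ) i) j
    rw [Matrix.sum_apply] at this
    rw [Finset.sum_apply]
    exact (Finset.sum_congr rfl fun m _ => by
      simp only [Matrix.smul_apply, Pi.smul_apply, Function.comp_apply, smul_eq_mul, mul_comm]).trans this
  have hcomm : ∀ g m, evM M g * P m = P m * evM M g := fun g m => sub_eq_zero.1 <|
    hlin (fun m => evM M g * P m - P m * evM M g) (fun φ => by
      have h := congrArg (evM M) (hcen (ptsEquiv e φ) g)
      rw [hM.mul, hM.mul, hexp] at h
      rw [Finset.sum_congr rfl (fun m _ => show χ m φ • (evM M g * P m - P m * evM M g) =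
        evM M g * (χ m φ • P m) - (χ m φ • P m) * evM M g by rw [Matrix.mul_smul, Matrix.smul_mul, smul_sub]),
        Finset.sum_sub_distrib, ← Finset.mul_sum, ← Finset.sum_mul, h, sub_self]) m
  have heig : ∀ φ l, evM M (ptsEquiv e φ ≫ iT) * P l = χ l φ • P l := fun φ l => sub_eq_zero.1 <|
    hlin (fun l => evM M (ptsEquiv e φ ≫ iT) * P l - χ l φ • P l) (fun ψ => by
      have h2 : ∑ l, χ l ψ • χ l φ • P l = ∑ m, χ m (φ * ψ) • P m :=
        Finset.sum_congr rfl fun l _ => by rw [smul_smul, map_mul, mul_comm]
      simp only [smul_sub, Finset.sum_sub_distrib, ← Matrix.mul_smul, ← Finset.mul_sum, ← hexp, h2]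
      rw [map_mul, MonObj.mul_comp, hM.mul, sub_self]) l
  have hidem : ∀ l, P l * P l = P l := fun l => by
    have := hlin (fun m => P m * P l - if m = l then P l else 0) (fun φ => by
      simp only [smul_sub, Finset.sum_sub_distrib, ← Matrix.smul_mul, ← Finset.sum_mul, ← hexp, heig,
        smul_ite, smul_zero, Finset.sum_ite_eq', Finset.mem_univ, if_true, sub_self]) l
    simpa [sub_eq_zero] using this
  let R : S → Set k := fun l => if P l = 0 then {0} else {c | (1 + (c - 1) • P l).det = 1}
  have hR : ∀ l, (R l).Finite := fun l => by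
    simp only [R]
    split_ifs with h
    · exact Set.finite_singleton 0
    · exact finite_det_eq_one _ (hidem l) h
  refine Set.Finite.of_finite_image (f := fun t => evM M (t ≫ iT)) ?_ fun s _ t _ h => ?_
  · refine ((Set.Finite.pi hR).image fun v : S → k => ∑ l, v l • P l).subset ?_
    rintro _ ⟨t, ht, rfl⟩
    obtain ⟨φ, rfl⟩ := (ptsEquiv e).surjective t
    refine ⟨fun l => if P l = 0 then 0 else χ l φ, fun l _ => ?_, ?_⟩
    · simp only [R]
      split_ifs with h
      · exact Set.mem_singleton _
      · let δ : (pt k k ⟶ G) →* k :=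
          { toFun := fun g => (evM M g * P l + (1 - P l)).det
            map_one' := by rw [hM.one, Matrix.one_mul, add_sub_cancel, Matrix.det_one]
            map_mul' := fun g g' => by
              rw [← Matrix.det_mul, hM.mul]
              congr 1
              have e1 : (evM M g * P l) * (evM M g' * P l) = evM M g * evM M g' * P l := by
                rw [Matrix.mul_assoc, ← Matrix.mul_assoc (P l), ← hcomm g', Matrix.mul_assoc (evM M g'), hidem,
                  ← Matrix.mul_assoc]
              have e2 : evM M g * P l * (1 - P l) = 0 := by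
                rw [Matrix.mul_sub, Matrix.mul_one, Matrix.mul_assoc, hidem, sub_self]
              have e3 : (1 - P l) * (evM M g' * P l) = 0 := by
                rw [Matrix.sub_mul, Matrix.one_mul, ← Matrix.mul_assoc, ← hcomm g', Matrix.mul_assoc, hidem, sub_self]
              have e4 : (1 - P l) * (1 - P l) = 1 - P l := by
                rw [Matrix.mul_sub, Matrix.mul_one, Matrix.sub_mul, Matrix.one_mul, hidem, sub_self, sub_zero]
              rw [Matrix.add_mul, Matrix.mul_add, Matrix.mul_add, e1, e2, e3, e4, add_zero, zero_add] }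
        let PF : Matrix (Fin d) (Fin d) (Fn G) := (P l).map (algebraMap k (Fn G))
        have hval : ∀ g, valAt g ((M * PF + (1 - PF)).det - 1) = δ g - 1 := fun g => by
          rw [map_sub, AlgHom.map_det, map_one, map_add, map_sub, map_mul, map_one]
          have : (valAt g).mapMatrix PF = P l := Matrix.ext fun i j => (valAt g).commutes _
          rw [this]
          rfl
        have h1 := ht _ fun g hg => by
          rw [hval, sub_eq_zero]
          exact congrArg Units.val (Abelianization.commutator_subset_ker δ.toHomUnits hg)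
        rw [hval, sub_eq_zero] at h1
        show (1 + (χ l φ - 1) • P l).det = 1
        refine Eq.trans ?_ h1
        show _ = (evM M (ptsEquiv e φ ≫ iT) * P l + (1 - P l)).det
        rw [heig, sub_smul, one_smul]
        congr 1
        abel
    · show ∑ l, (if P l = 0 then (0 : k) else χ l φ) • P l = evM M (ptsEquiv e φ ≫ iT)
      rw [hexp]
      exact Finset.sum_congr rfl fun l _ => by split_ifs with h <;> simp [h]
  · have h1 : evM M ((s ≫ iT) * (t ≫ iT)⁻¹) = 1 := by
      rw [hM.mul]
      show evM M (s ≫ iT) * _ = 1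
      rw [show evM M (s ≫ iT) = evM M (t ≫ iT) from h, hM.mul_inv]
    rw [← cancel_mono iT]
    exact mul_inv_eq_one.1 (hf _ h1)

end GrothLib.UnipFix19
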