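import Groth.Agent.Lib.UnipFix19.Main
import Groth.Agent.Lib.Induce27.Solv
import Groth.Agent.Lib.Induce27.Sub
import Groth.Agent.Lib.Induce27.Restrict
import Groth.Agent.Lib.Flag27.NoSubtorus
import Groth.Agent.Lib.Flag27.UnipRad

/-!
# Connected groups without subtori fix vectors in stable subspaces of all modules
-/

set_option autoImplicit false
set_option linter.all false
set_option backward.isDefEq.respectTransparency false

universe u

open CategoryTheory MonoidalCategory CartesianMonoidalCategory MonObj GrpObj AlgebraicGeometry VecGrp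
open scoped TensorProduct

noncomputable section

set_option synthInstance.maxHeartbeats 200000
set_option maxHeartbeats 2000000

namespace GrothLib.UnipFix19

open GrothLib.Repr GrothLib.Induce27 Groth.Agent.S11191

variable {k : Type u} [Field k] [IsAlgClosed k] {U : Over (Spec (CommRingCat.of k))} [GrpObj U]
  [IsAffine U.left] [Smooth U.hom] [ConnectedSpace U.left]

/-- A connected group without subtori fixes a non-zero vector in every non-zero stable subspace. -/
theorem exists_fixed_mem (hU : Red.HasNoSubtorus k U) {V : Type u} [AddCommGroup V] [Module k V]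
    (σ : GMod U V) (N : Submodule k V) (hN : ∀ g, ∀ v ∈ N, kAct σ g v ∈ N) (hne : N ≠ ⊥) :
    ∃ w ∈ N, w ≠ 0 ∧ w ∈ σ.fixedUnder (𝟙 U) := by
  classical
  have hsol : IsSolvable (pt k k ⟶ U) :=
    (GrothLib.Flag27.isSolvable_pt_iff U).2 (GrothLib.Flag27.isUnip_of_noSubtorus hU).2
  haveI : Group.IsSolvable (pt k k ⟶ U) := hsol
  obtain ⟨x, hx, hx0⟩ := Submodule.exists_mem_ne_zero_of_ne_bot hne
  obtain ⟨W, hWf, hW, hmem⟩ := exists_stable σ {x}
  haveI := hWf
  have hsub : ∀ g (v : W), ((kAct (subGMod σ W hW) g v : W) : V) = kAct σ g v := fun g v => by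
    have h1 := res_spec σ W hW g ((1 : k) ⊗ₜ[k] v)
    rw [← subGMod_apply σ W hW, rho_one_tmul, LinearMap.baseChange_tmul, LinearMap.baseChange_tmul,
      rho_one_tmul] at h1
    simpa using congrArg (TensorProduct.lid k V) h1
  obtain ⟨w, hwN, hw0, hw⟩ := exists_eigen_gmod (subGMod σ W hW) (N.comap W.subtype)
    (fun g v hv => by
      show ((kAct (subGMod σ W hW) g v : W) : V) ∈ N
      rw [hsub]; exact hN g _ hv)
    (fun h => hx0 (by
      have hm : (⟨x, hmem x (Finset.mem_singleton_self x)⟩ : W) ∈ N.comap W.subtype := hx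
      rw [h, Submodule.mem_bot] at hm
      exact congrArg Subtype.val hm))
  have hw' : ∀ g, ∃ c : k, kAct σ g (w : V) = c • (w : V) := fun g => by
    obtain ⟨c, hc⟩ := hw g
    exact ⟨c, by rw [← hsub, hc]; rfl⟩
  choose c hc using hw'
  have hw0' : (w : V) ≠ 0 := fun h => hw0 (Subtype.ext h)
  obtain ⟨ℓ, hℓ⟩ : ∃ ℓ : Module.Dual k V, ℓ (w : V) = 1 := by
    obtain ⟨ℓ, hℓ⟩ := LinearMap.exists_leftInverse_of_injective (LinearMap.toSpanSingleton k V (w : V))
      (by rw [LinearMap.ker_eq_bot]; exact smul_left_injective k hw0')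
    exact ⟨ℓ, by simpa using LinearMap.congr_fun hℓ 1⟩
  have hv : ∀ (φ : Module.Dual k V) g, valAt g (coeff σ φ (w : V)) = c g * φ w := fun φ g => by
    rw [valAt_coeff, rho_one_tmul, cf_tmul, hc, map_smul, smul_eq_mul, smul_eq_mul, _root_.mul_one]
  have hcv : ∀ g, c g = valAt g (coeff σ ℓ (w : V)) := fun g => by rw [hv, hℓ, _root_.mul_one]
  have hc1 : c 1 = 1 := by
    have h := hc 1
    rw [kAct_one] at h
    exact (smul_left_injective k hw0' (h.symm.trans (one_smul k (w : V)).symm))
  have hcm : ∀ g g', c (g * g') = c g * c g' := fun g g' => by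
    refine smul_left_injective k hw0' ?_
    show c (g * g') • (w : V) = (c g * c g') • (w : V)
    rw [← hc, kAct_mul, hc g', map_smul, hc g, smul_smul, _root_.mul_comm]
  have hone : ∀ g, c g = 1 := fun g => by
    rw [hcv]
    exact char_eq_one hsol hU _ (by rw [← hcv, hc1]) (fun a b => by rw [← hcv, ← hcv, ← hcv, hcm]) g
  refine ⟨w, hwN, hw0', fun B _ _ h => ext_cf fun φ => ?_⟩
  rw [Category.comp_id, cf_tmul, ← valAt_coeff]
  have e : coeff σ φ (w : V) = algebraMap k _ (φ w) := sub_eq_zero.1 (eq_zero_of_valAt fun g => by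
    rw [map_sub, hv, hone, _root_.one_mul, AlgHom.commutes]
    exact sub_self _)
  rw [e, AlgHom.commutes, Algebra.algebraMap_eq_smul_one]

end GrothLib.UnipFix19
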