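import Groth.Agent.Lib.UnipFix19.Product

/-!
# Unipotent normal subgroups of normal subgroups
-/

set_option autoImplicit false
set_option linter.all false
set_option backward.isDefEq.respectTransparency false

universe u

open CategoryTheory CategoryTheory.Limits MonoidalCategory CartesianMonoidalCategory MonObj GrpObj
open AlgebraicGeometry TopologicalSpace VecGrp
open GrothLib.Repr GrothLib.Induce27 GrothLib.Flag27

noncomputable section

namespace GrothLib.UnipFix19

open Groth.Agent.S11191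

section Conj

variable {S : Scheme.{u}} {G N : Over S} [GrpObj G] [GrpObj N]

/-- Conjugation by a global point restricted to a normal subgroup. -/
theorem exists_conj (j : N ⟶ G) [IsMonHom j] [Mono j] (hN : AlgGrp.IsNormalHom j) (g : 𝟙_ (Over S) ⟶ G) :
    ∃ c : N ⟶ N, IsMonHom c ∧ c ≫ j = (toUnit N ≫ g) * j * (toUnit N ≫ g)⁻¹ := by
  obtain ⟨c, hc⟩ := hN N (toUnit N ≫ g) (𝟙 N)
  rw [Category.id_comp] at hc
  refine ⟨c, ?_, hc.symm⟩
  have hx : ∀ {T : Over S} (x : T ⟶ N), (x ≫ c) ≫ j = (toUnit T ≫ g) * (x ≫ j) * (toUnit T ≫ g)⁻¹ := by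
    intro T x
    rw [Category.assoc, ← hc, MonObj.comp_mul, MonObj.comp_mul, GrpObj.comp_inv, ← Category.assoc,
      toUnit_unique (x ≫ toUnit N) (toUnit T)]
  have h1 : (1 : 𝟙_ (Over S) ⟶ N) ≫ c = 1 := by
    rw [← cancel_mono j, hx, MonObj.one_comp]
    group
  have h2 : ∀ {T : Over S} (x y : T ⟶ N), (x * y) ≫ c = (x ≫ c) * (y ≫ c) := by
    intro T x y
    rw [← cancel_mono j, hx, MonObj.mul_comp, MonObj.mul_comp, hx, hx]
    group
  constructor
  · have e : (1 : 𝟙_ (Over S) ⟶ N) = η[N] := by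
      rw [Hom.one_def, toUnit_unique (toUnit (𝟙_ (Over S))) (𝟙 _), Category.id_comp]
    rw [← e, h1]
  · have e : fst N N * snd N N = μ[N] := by rw [Hom.mul_def, lift_fst_snd, Category.id_comp]
    rw [← e, h2, Hom.mul_def, MonoidalCategory.tensorHom_def]
    congr 1
    · ext <;> simp
    · exact e.symm

theorem conj_mul_conj (j : N ⟶ G) [Mono j] (g g' : 𝟙_ (Over S) ⟶ G) {c c' : N ⟶ N}
    (hc : c ≫ j = (toUnit N ≫ g) * j * (toUnit N ≫ g)⁻¹)
    (hc' : c' ≫ j = (toUnit N ≫ g') * j * (toUnit N ≫ g')⁻¹) (hgg : g' * g = 1) : c ≫ c' = 𝟙 N := by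
  have e : toUnit N ≫ g' = (toUnit N ≫ g)⁻¹ := by
    rw [eq_inv_iff_mul_eq_one, ← MonObj.comp_mul, hgg, MonObj.comp_one]
  rw [← cancel_mono j, Category.assoc, hc', MonObj.comp_mul, MonObj.comp_mul, GrpObj.comp_inv, ← Category.assoc,
    toUnit_unique (c ≫ toUnit N) (toUnit N), hc, e, Category.id_comp]
  group

theorem exists_conj_iso (j : N ⟶ G) [IsMonHom j] [Mono j] (hN : AlgGrp.IsNormalHom j) (g : 𝟙_ (Over S) ⟶ G) :
    ∃ c : N ≅ N, IsMonHom c.hom ∧ IsMonHom c.inv ∧ c.hom ≫ j = (toUnit N ≫ g) * j * (toUnit N ≫ g)⁻¹ := by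
  obtain ⟨c, hc1, hc⟩ := exists_conj j hN g
  obtain ⟨d, hd1, hd⟩ := exists_conj j hN g⁻¹
  exact ⟨⟨c, d, conj_mul_conj j g g⁻¹ hc hd (inv_mul_cancel g), conj_mul_conj j g⁻¹ g hd hc (mul_inv_cancel g)⟩,
    hc1, hd1, hc⟩

end Conj

section Trivial

/-- A group scheme over a field whose structure map is a monomorphism is trivial. -/
theorem isTrivialGrp_of_mono_hom {k : Type u} [Field k] {U : Over (Spec (CommRingCat.of k))} [GrpObj U]
    [Mono U.hom] : Red.IsTrivialGrp U := by
  show IsIso U.hom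
  haveI : IsSplitEpi U.hom :=
    IsSplitEpi.mk' ⟨(η[U] : 𝟙_ (Over (Spec (CommRingCat.of k))) ⟶ U).left, Over.w _⟩
  exact isIso_of_mono_of_isSplitEpi _

/-- A subgroup of a trivial group is trivial. -/
theorem isTrivialGrp_of_factor {k : Type u} [Field k] {U P G : Over (Spec (CommRingCat.of k))} [GrpObj U]
    (f : U ⟶ P) (p : P ⟶ G) (i : U ⟶ G) [IsClosedImmersion i.left] (h : f ≫ p = i) (hP : Red.IsTrivialGrp P) :
    Red.IsTrivialGrp U := by
  haveI : IsIso P.hom := hP
  haveI : Mono f.left := by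
    haveI : Mono (f.left ≫ p.left) := by rw [← Over.comp_left, h]; infer_instance
    exact mono_of_mono f.left p.left
  haveI : Mono U.hom := by rw [← Over.w f]; infer_instance
  exact isTrivialGrp_of_mono_hom

variable {k : Type u} [Field k] [IsAlgClosed k]

/-- A smooth closed normal subgroup of a group with trivial unipotent radical has trivial unipotent radical. -/
theorem trivial_of_normal (G N : Over (Spec (CommRingCat.of k))) [GrpObj G] [GrpObj N] [IsAffine G.left]
    [Smooth G.hom] (j : N ⟶ G) [IsMonHom j] [IsClosedImmersion j.left] [Smooth N.hom] (hN : AlgGrp.IsNormalHom j)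
    (hG : ∀ (U : Over (Spec (CommRingCat.of k))) [GrpObj U] (i : U ⟶ G) [IsMonHom i], IsClosedImmersion i.left →
      Smooth U.hom → ConnectedSpace ↥U.left → AlgGrp.IsNormalHom i → Red.HasNoSubtorus k U → Red.IsTrivialGrp U) :
    ∀ (U : Over (Spec (CommRingCat.of k))) [GrpObj U] (i : U ⟶ N) [IsMonHom i], IsClosedImmersion i.left →
      Smooth U.hom → ConnectedSpace ↥U.left → AlgGrp.IsNormalHom i → Red.HasNoSubtorus k U → Red.IsTrivialGrp U := by
  intro U _ i _ hi hUs hUc hUn hU0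
  haveI : IsAffine N.left := isAffine_of_isAffineHom j.left
  haveI : IsAffine U.left := isAffine_of_isAffineHom i.left
  haveI : Mono j := Over.mono_of_mono_left j
  obtain ⟨P, hP⟩ := exists_largest (G := N)
  obtain ⟨f, hf⟩ := hP ⟨U, inferInstance, i, inferInstance, hi, hUs, hUc, hUn, fix_of_hasNoSubtorus hU0⟩
  haveI : IsClosedImmersion (P.u ≫ j).left := by
    rw [Over.comp_left]; infer_instance
  haveI : IsAffine P.U.left := isAffine_of_isAffineHom P.u.left
  refine isTrivialGrp_of_factor f P.u i hf (hG P.U (P.u ≫ j) inferInstance P.smooth P.connected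
    (isNormalHom_of_pts _ fun g w => ?_) (hasNoSubtorus_of_fix P.fix))
  obtain ⟨c, hc1, hc2, hc⟩ := exists_conj_iso j hN g
  haveI : IsClosedImmersion (P.u ≫ c.hom).left := by
    rw [Over.comp_left]
    haveI : IsIso c.hom.left := (inferInstance : IsIso ((Over.forget _).map c.hom))
    infer_instance
  obtain ⟨f', hf'⟩ := hP ⟨P.U, P.grp, P.u ≫ c.hom, inferInstance, inferInstance, P.smooth, P.connected, (fun T n x => by
    obtain ⟨x', hx'⟩ := P.normal T (n ≫ c.inv) x
    refine ⟨x', ?_⟩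
    have := congrArg (· ≫ c.hom) hx'
    simpa [MonObj.mul_comp, GrpObj.inv_comp] using this), P.fix⟩
  refine ⟨w ≫ f', ?_⟩
  rw [Category.assoc, reassoc_of% hf', hc]
  simp only [MonObj.comp_mul, GrpObj.comp_inv, ← Category.assoc]
  rw [toUnit_unique ((w ≫ P.u) ≫ toUnit N) (𝟙 _), Category.id_comp]

end Trivial

end GrothLib.UnipFix19
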